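import Cfsg.Agent.H86.MTwentyTwo.Tools
import Cfsg.Agent.H36.BlockDegree

/-!
The signed degrees of the principal block of a simple group with a Sylow subgroup of prime order.
-/

set_option linter.unusedSectionVars false
set_option linter.style.haveILetI false

open scoped ComplexConjugate Classical

namespace Cfsg.Agent.H86.MTwentyTwo

open CharBasic Subgroup BlockBasic

universe u

variable {G : Type u} [Group G] [Fintype G] {p : ℕ} [hp : Fact p.Prime] (D : SmallExc.PBlk G p)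

/-- The signed degrees of the nontrivial non-exceptional characters. -/
noncomputable def signedX : List ℤ :=
  (D.X.erase trivialIrr).toList.map fun χ => D.εX χ * (charDegree (χ : G → ℂ) : ℤ)

theorem length_signedX : (signedX D).length + 1 = D.e := by
  rw [signedX, List.length_map, Finset.length_toList, Finset.card_erase_of_mem D.trivX, D.cardX]
  exact Nat.sub_add_cancel D.e_pos

theorem natAbs_sign_mul {s : ℤ} (hs : s = 1 ∨ s = -1) (d : ℕ) : (s * (d : ℤ)).natAbs = d := by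
  rcases hs with e | e <;> simp [e]

theorem mem_signedX {F : ℤ} (hF : F ∈ signedX D) :
    ∃ χ ∈ D.X, χ ≠ trivialIrr ∧ F = D.εX χ * (charDegree (χ : G → ℂ) : ℤ) := by
  obtain ⟨χ, hχ, rfl⟩ := List.mem_map.1 hF
  obtain ⟨h1, h2⟩ := Finset.mem_erase.1 (Finset.mem_toList.1 hχ)
  exact ⟨χ, h2, h1, rfl⟩

theorem sum_signedX {θ : IrrCharacter G} (hθ : θ ∈ D.Y) :
    1 + (signedX D).sum = D.ε * (charDegree (θ : G → ℂ) : ℤ) := by
  rw [D.rel_one hθ, ← Finset.add_sum_erase _ _ D.trivX, SmallExc.PBlk.εX_triv D,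
    SmallExc.PBlk.charDegree_triv D, signedX, Finset.sum_map_toList, Nat.cast_one, mul_one]

theorem card_Y_eq : D.Y.card = D.t := D.cardY

theorem sq_signedX {θ : IrrCharacter G} (hθ : θ ∈ D.Y) :
    1 + ((signedX D).map fun F => F * F).sum +
      (D.t : ℤ) * (D.ε * (charDegree (θ : G → ℂ) : ℤ)) ^ 2 ≤ (Nat.card G : ℤ) := by
  have hall : ∑ χ : IrrCharacter G, (charDegree (χ : G → ℂ) : ℤ) ^ 2 = Nat.card G := by
    have h := sum_sq_degree (G := G)
    simp only [apply_one_eq_charDegree] at h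
    exact_mod_cast h
  have hle := Finset.sum_le_sum_of_subset_of_nonneg (Finset.subset_univ (D.X ∪ D.Y))
    (f := fun χ : IrrCharacter G => (charDegree (χ : G → ℂ) : ℤ) ^ 2) (fun χ _ _ => sq_nonneg _)
  rw [hall, Finset.sum_union D.disj, ← Finset.add_sum_erase _ _ D.trivX,
    SmallExc.PBlk.charDegree_triv D,
    Finset.sum_congr rfl (g := fun _ => (charDegree (θ : G → ℂ) : ℤ) ^ 2) (fun θ' hθ' => by
      rw [D.degree_Y hθ' hθ] : ∀ θ' ∈ D.Y,
        (charDegree (θ' : G → ℂ) : ℤ) ^ 2 = (charDegree (θ : G → ℂ) : ℤ) ^ 2),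
    Finset.sum_const, nsmul_eq_mul, card_Y_eq D] at hle
  refine le_trans (le_of_eq ?_) hle
  rw [signedX, List.map_map, Finset.sum_map_toList]
  have hε : D.ε * D.ε = 1 := by rcases D.hε with e | e <;> simp [e]
  rw [Finset.sum_congr rfl (g := fun χ : IrrCharacter G => (charDegree (χ : G → ℂ) : ℤ) ^ 2)
    fun χ hχ => ?_, Nat.cast_one, one_pow, mul_pow, sq D.ε, hε, one_mul]
  show D.εX χ * _ * (D.εX χ * _) = _
  rcases D.sign χ (Finset.mem_of_mem_erase hχ) with e | e <;> rw [e] <;> ring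

theorem index_cent : (Cent D).index = D.e * D.g := FewSylowReduce.index_centralizer D.P

theorem e_mul_g_mul : D.e * D.g * (p * coSize D) = Nat.card G := by
  rw [← index_cent D, ← card_cent D]
  exact (Cent D).index_mul_card

theorem X_degree_mod {χ : IrrCharacter G} (hχ : χ ∈ D.X) :
    (p : ℤ) ∣ D.εX χ * (charDegree (χ : G → ℂ) : ℤ) - 1 := by
  obtain ⟨k, hk⟩ := Int.modEq_iff_dvd.1 (D.degX χ hχ).symm
  have hs : D.εX χ * D.εX χ = 1 := by rcases D.sign χ hχ with e | e <;> simp [e]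
  exact ⟨D.εX χ * k, by linear_combination D.εX χ * hk + hs⟩

theorem Y_degree_mod {θ : IrrCharacter G} (hθ : θ ∈ D.Y) :
    (p : ℤ) ∣ D.ε * (charDegree (θ : G → ℂ) : ℤ) - D.e := by
  obtain ⟨k, hk⟩ := Int.modEq_iff_dvd.1 (D.degY θ hθ).symm
  rw [show (centralizer ((D.P : Subgroup G) : Set G)).relIndex (normalizer (D.P : Set G)) = D.e
    from rfl] at hk
  have hs : D.ε * D.ε = 1 := by rcases D.hε with e | e <;> simp [e]
  exact ⟨D.ε * k, by linear_combination D.ε * hk + (D.e : ℤ) * hs⟩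

/-- The values of the exceptional characters sum to `-ε` on singular sections. -/
theorem sum_Y_section {x y : G} (hx : x ∈ (D.P : Subgroup G)) (hx1 : x ≠ 1) (hy : y ∈ Cent D)
    (hy' : ¬ p ∣ orderOf y) : ∑ θ ∈ D.Y, (θ : G → ℂ) (x * y) = -(D.ε : ℂ) := by
  haveI := Abelian.isMulCommutative_sylow D.P D.card_P
  rw [Finset.sum_congr rfl fun θ hθ => Abelian.apply_mul_eq D.P D.card_P D.hM
    ((D.mem_iff θ).2 (Or.inr hθ)) hx hx1 hy hy', sum_Y_singular D hx hx1]

/-- With a self-centralising Sylow subgroup the degrees outside the block are divisible by `p`. -/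
theorem dvd_degree_outside (hC : Cent D = (D.P : Subgroup G)) {χ : IrrCharacter G}
    (h1 : χ ∉ D.X) (h2 : χ ∉ D.Y) : p ∣ charDegree (χ : G → ℂ) := by
  obtain ⟨x, hx, hx1⟩ := D.exists_ne_one
  have h := congr_value D (χ := χ) (one_mem (Cent D)) (reg_one (D := D)) hx
  rw [mul_one, D.vanish hC h1 h2 hx hx1, apply_one_eq_charDegree, zero_sub,
    ← Int.cast_natCast, ← Int.cast_neg, memLocalIdeal_intCast_iff D.hM, Int.dvd_neg] at h
  exact Int.natCast_dvd_natCast.1 h

variable [IsSimpleGroup G]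

theorem two_le_degree (hna : ¬ IsMulCommutative G) {χ : IrrCharacter G} (hχ : χ ≠ trivialIrr) :
    2 ≤ charDegree (χ : G → ℂ) := by
  obtain ⟨d, hd, hd1, -⟩ := H36.SelfCentral.exists_degree_two_le hna (χ := χ)
    (fun h => hχ (h.trans (Subtype.ext rfl)))
  rw [apply_one_eq_charDegree] at hd1
  have : charDegree (χ : G → ℂ) = d := by exact_mod_cast hd1
  omega

theorem Y_ne_triv {θ : IrrCharacter G} (hθ : θ ∈ D.Y) : θ ≠ trivialIrr :=
  fun e => Finset.disjoint_left.1 D.disj D.trivX (e ▸ hθ)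

theorem not_small_signed (hna : ¬ IsMulCommutative G) {q : ℕ} (hq : q.Prime) (hpq : p ≠ q) {y : G}
    (hyC : y ∈ Cent D) (hy : orderOf y = q) :
    (∀ F ∈ signedX D, ¬ H36.BlockDegree.Small p F) ∧ ∀ θ ∈ D.Y,
      ¬ H36.BlockDegree.Small p (-(D.t : ℤ) * (D.ε * (charDegree (θ : G → ℂ) : ℤ))) := by
  obtain ⟨x, hx, hx1⟩ := D.exists_ne_one
  have hxi : ∀ i : ℕ, ¬ p ∣ i → x ^ i ≠ 1 := fun i hi h =>
    hi (orderOf_mem D hx hx1 ▸ orderOf_dvd_of_pow_eq_one h)
  have hyj : ∀ j : ℕ, ¬ p ∣ orderOf (y ^ j) := fun j h => hpq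
    ((Nat.prime_dvd_prime_iff_eq hp.out hq).1 (h.trans ((orderOf_pow_dvd (x := y) j).trans hy.dvd)))
  constructor
  · intro F hF
    obtain ⟨χ, hχ, -, rfl⟩ := mem_signedX D hF
    exact H36.BlockDegree.not_small hna (IsIrr.isCharacter χ.2) hp.out hq hpq (orderOf_mem D hx hx1)
      hy (commute_mem D hx hyC) (D.sign χ hχ)
      (fun i j hi => D.valX χ hχ _ (pow_mem hx i) (hxi i hi) _ (pow_mem hyC j) (hyj j))
      (apply_one_eq_charDegree χ)
  · intro θ hθ
    have hchar : IsCharacter G (fun g => ∑ θ ∈ D.Y, (θ : G → ℂ) g) := by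
      have h := IsChar.sum D.Y (fun θ : IrrCharacter G => (θ : G → ℂ))
        (fun θ _ => IsIrr.isCharacter θ.2)
      convert h using 1
      funext g
      rw [Finset.sum_apply]
    have h := H36.BlockDegree.not_small hna hchar hp.out hq hpq (orderOf_mem D hx hx1) hy
      (commute_mem D hx hyC) (δ := -D.ε) (by rcases D.hε with h | h <;> simp [h])
      (fun i j hi => by
        rw [Int.cast_neg]
        exact sum_Y_section D (pow_mem hx i) (hxi i hi) (pow_mem hyC j) (hyj j))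
      (f := D.t * charDegree (θ : G → ℂ)) (by
        show ∑ θ ∈ D.Y, (θ : G → ℂ) 1 = _
        rw [Finset.sum_congr rfl fun θ' hθ' => by rw [apply_one_eq_charDegree, D.degree_Y hθ' hθ],
          Finset.sum_const, nsmul_eq_mul, card_Y_eq D]
        push_cast; rfl)
    convert h using 2
    push_cast; ring

end Cfsg.Agent.H86.MTwentyTwo
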