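import Mathlib.Data.List.Sort
import Mathlib.Tactic.Linarith
import Mathlib.Tactic.Ring

/-!
Search excluding a large centraliser of a Sylow 11-subgroup in a simple group of order 443520.

An option is a pair of signed values `(F, u)` of a nontrivial non-exceptional character at `1` and at an
involution centralising the Sylow subgroup.
-/

set_option autoImplicit false

namespace Cfsg.Agent.H86.MTwentyTwo.ElevenSearch

/-- The group order. -/
def N : ℕ := 443520

/-- The excluded signed degrees. -/
def small (F : ℤ) : Bool := F == -10 || F == -21 || F == 12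

/-- The possible signed degrees, by increasing absolute value. -/
def degs : List ℤ := [-32, 45, 56, -120, 144, 210, -252, 320, -384, -560]

/-- The options for an involution whose centraliser has index `h` and order `c`. -/
def opts (c h : ℕ) : List (ℤ × ℤ) :=
  degs.flatMap fun F => ((List.range 122).filter fun i =>
      let u : ℤ := 1 + 11 * ((i : ℤ) - 61)
      (u.natAbs < F.natAbs) && ((F - u) % 4 == 0) && ((h : ℤ) * u % F == 0) && (u * u < (c : ℤ))).map
    fun i => (F, 1 + 11 * ((i : ℤ) - 61))

/-- Sums over the options chosen so far. -/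
structure St where
  /-- Sum of signed degrees. -/
  s : ℤ
  /-- Sum of squares of degrees. -/
  q : ℤ
  /-- Sum of signed values. -/
  su : ℤ
  /-- Sum of squares of values. -/
  r : ℤ
  /-- Weighted sum of squares of values. -/
  S : ℤ

/-- Adding an option. -/
def St.add (st : St) (o : ℤ × ℤ) : St :=
  ⟨st.s + o.1, st.q + o.1 * o.1, st.su + o.2, st.r + o.2 * o.2, st.S + (N : ℤ) / o.1 * (o.2 * o.2)⟩

/-- Adding several options. -/
def St.addL (st : St) (L : List (ℤ × ℤ)) : St := L.foldl St.add st

/-- The empty state, containing the trivial character. -/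
def St.init : St := ⟨1, 1, 1, 1, (N : ℤ)⟩

/-- The search over multisets of `k` options, each checked by `leaf`. -/
def searchF (c : ℕ) (leaf : St → Bool) : ℕ → ℕ → List (ℤ × ℤ) → St → Bool
  | 0, _, _, _ => false
  | fuel + 1, k, os, st =>
    match k, os with
    | 0, _ => leaf st
    | _ + 1, [] => true
    | k + 1, o :: os =>
      if (N : ℤ) < st.q + (k + 1 : ℕ) * (o.1 * o.1) then true
      else
        (if st.r + o.2 * o.2 ≤ (c : ℤ) then searchF c leaf fuel k (o :: os) (st.add o) else true) &&
          searchF c leaf fuel (k + 1) os st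

/-- The options are sorted by the squares of the degrees. -/
def sortedOpts : List (ℤ × ℤ) → Bool
  | [] => true
  | [_] => true
  | a :: b :: l => (a.1 * a.1 ≤ b.1 * b.1) && sortedOpts (b :: l)

theorem sorted_head {a : ℤ × ℤ} {l : List (ℤ × ℤ)} (h : sortedOpts (a :: l) = true) :
    (∀ b ∈ l, a.1 * a.1 ≤ b.1 * b.1) ∧ sortedOpts l = true := by
  induction l generalizing a with
  | nil => exact ⟨fun b hb => absurd hb (List.not_mem_nil), rfl⟩
  | cons b l ih =>
    rw [sortedOpts, Bool.and_eq_true, decide_eq_true_eq] at h
    refine ⟨fun d hd => ?_, h.2⟩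
    rcases List.mem_cons.1 hd with rfl | hd
    · exact h.1
    · exact le_trans h.1 ((ih h.2).1 d hd)

theorem addL_perm {L L' : List (ℤ × ℤ)} (h : L.Perm L') : ∀ st : St, st.addL L = st.addL L' := by
  induction h with
  | nil => exact fun _ => rfl
  | cons a _ ih => exact fun st => ih (st.add a)
  | swap a b l =>
    intro st
    show ((st.add b).add a).addL l = ((st.add a).add b).addL l
    congr 1
    simp only [St.add, St.mk.injEq]
    exact ⟨by ring, by ring, by ring, by ring, by ring⟩
  | trans _ _ ih1 ih2 => exact fun st => (ih1 st).trans (ih2 st)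

theorem q_r_mono : ∀ (L : List (ℤ × ℤ)) (st : St), st.r ≤ (st.addL L).r ∧
    st.q + (L.map fun o => o.1 * o.1).sum = (st.addL L).q
  | [], st => by simp [St.addL]
  | o :: L, st => by
    obtain ⟨h1, h2⟩ := q_r_mono L (st.add o)
    have h3 : st.addL (o :: L) = (st.add o).addL L := rfl
    rw [h3]
    refine ⟨le_trans ?_ h1, ?_⟩
    · show st.r ≤ st.r + o.2 * o.2
      nlinarith [mul_self_nonneg o.2]
    · rw [← h2, List.map_cons, List.sum_cons]
      show _ = st.q + o.1 * o.1 + _
      ring

/-- Soundness of the search. -/
theorem searchF_sound {c : ℕ} {leaf : St → Bool} : ∀ (fuel k : ℕ) (os : List (ℤ × ℤ)) (st : St),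
    sortedOpts os = true → searchF c leaf fuel k os st = true →
      ∀ L : List (ℤ × ℤ), L.length = k → (∀ o ∈ L, o ∈ os) →
        (st.addL L).q ≤ (N : ℤ) → (st.addL L).r ≤ (c : ℤ) → leaf (st.addL L) = true
  | 0, _, _, _, _, h, _, _, _, _, _ => by simp [searchF] at h
  | fuel + 1, 0, os, st, _, h, L, hL, _, _, _ => by
    rw [List.length_eq_zero_iff.1 hL]
    simpa [searchF, St.addL] using h
  | fuel + 1, k + 1, [], st, _, _, L, hL, hmem, _, _ => by
    cases L with
    | nil => simp at hL
    | cons a L => exact absurd (hmem a (by simp)) (List.not_mem_nil)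
  | fuel + 1, k + 1, o :: os, st, hs, h, L, hL, hmem, hq, hr => by
    obtain ⟨hle, hs'⟩ := sorted_head hs
    simp only [searchF] at h
    split_ifs at h with h1 h2
    · exfalso
      have hge : ∀ b ∈ L, o.1 * o.1 ≤ b.1 * b.1 := fun b hb => by
        rcases List.mem_cons.1 (hmem b hb) with rfl | hb'
        · exact le_rfl
        · exact hle b hb'
      have hsum : ∀ L : List (ℤ × ℤ), (∀ b ∈ L, o.1 * o.1 ≤ b.1 * b.1) →
          (L.length : ℤ) * (o.1 * o.1) ≤ (L.map fun b => b.1 * b.1).sum := by
        intro L hL
        induction L with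
        | nil => simp
        | cons b L ih =>
          have := ih fun d hd => hL d (List.mem_cons_of_mem _ hd)
          have := hL b (List.mem_cons_self)
          simp only [List.length_cons, List.map_cons, List.sum_cons, Nat.cast_add, Nat.cast_one]
          linarith
      have h3 := hsum L hge
      rw [hL] at h3
      have h4 := (q_r_mono L st).2
      omega
    all_goals
      by_cases ho : o ∈ L
      · have hp : L.Perm (o :: L.erase o) := List.perm_cons_erase ho
        rw [addL_perm hp] at hq hr ⊢
        have hq' : ((st.add o).addL (L.erase o)).q ≤ (N : ℤ) := hq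
        have hr' : ((st.add o).addL (L.erase o)).r ≤ (c : ℤ) := hr
        first
        | (rw [Bool.and_eq_true] at h
           exact searchF_sound fuel k (o :: os) (st.add o) hs h.1 (L.erase o)
             (by rw [List.length_erase_of_mem ho, hL]; rfl)
             (fun b hb => hmem b (List.mem_of_mem_erase hb)) hq' hr')
        | (exact absurd (le_trans (q_r_mono (L.erase o) (st.add o)).1 hr') h2)
      · rw [Bool.and_eq_true] at h
        exact searchF_sound fuel (k + 1) os st hs' h.2 L hL
          (fun b hb => (List.mem_cons.1 (hmem b hb)).resolve_left (fun e => ho (e ▸ hb))) hq hr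

/-- The common conditions on the exceptional signed degree and value. -/
def excOK (e t c h : ℕ) (st : St) : Bool :=
  let T := st.s
  let w := st.su
  (T.natAbs ≥ 2) && (N % T.natAbs == 0) && ((T - e) % 11 == 0) && !(small (-(t : ℤ) * T)) &&
    (st.q + (t : ℤ) * (T * T) ≤ (N : ℤ)) && ((w - e) % 11 == 0) && (w.natAbs < T.natAbs) &&
    ((T - w) % 4 == 0) && ((h : ℤ) * w % T == 0) && (st.r + (t : ℤ) * (w * w) ≤ (c : ℤ))

/-- The numerator of the square sum. -/
def sqNum (st : St) : ℤ := st.S - (N : ℤ) / st.s * (st.su * st.su)

/-- The leaf test for five orbits. -/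
def leaf5 (c h : ℕ) (st : St) : Bool := !(excOK 5 2 c h st) || !(sqNum st == 0)

/-- The leaf test for ten orbits. -/
def leaf10 (c h : ℕ) (st : St) : Bool :=
  !(excOK 10 1 c h st) || [336, 72, 28, 6].all fun L : ℕ =>
    let x : ℤ := 11 * (L : ℤ) * ((h : ℤ) * h) * sqNum st
    let NN : ℤ := (N : ℤ) * N
    !(x % NN == 0) || (x < 625 * NN && (List.range 25).all fun a : ℕ => !(x == (a : ℤ) * a * NN))

/-- The orders considered for the involution centraliser, divided by 22. -/
def cofactors : List ℕ := (List.range 20160).filter fun k => 20160 % k == 0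

/-- One centraliser order. -/
def checkOne (k : ℕ) : Bool :=
  let c := 22 * k
  let h := N / c
  let os := opts c h
  sortedOpts os && searchF c (leaf5 c h) 2000 4 os St.init && searchF c (leaf10 c h) 2000 9 os St.init

set_option maxRecDepth 100000 in
theorem check_all : cofactors.all checkOne = true := by
  decide +kernel

theorem degs_complete : ((List.range 666).all fun d => !(2 ≤ d && N % d == 0) ||
    ([(d : ℤ), -(d : ℤ)].all fun F => !((F - 1) % 11 == 0 && !(small F)) || degs.contains F)) = true := by
  decide +kernel

end Cfsg.Agent.H86.MTwentyTwo.ElevenSearch
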