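import Cfsg.Agent.H86.MTwentyTwo.Square
import Cfsg.Agent.H86.MTwentyTwo.ElevenSearch
import Cfsg.Agent.H36.BlockDegree
import Cfsg.Agent.H36.Numeric
import Cfsg.Agent.H36.Basic
import Cfsg.Agent.Compute.G22.Char
import Cfsg.Prelude.Def_Sporadic

/-!
In a simple group of order 443520 a Sylow 11-subgroup is self-centralising, of index five in its
normaliser.
-/

set_option linter.unusedSectionVars false
set_option linter.style.haveILetI false

open scoped ComplexConjugate Classical

namespace Cfsg.Agent.H86.MTwentyTwo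

open CharBasic Subgroup BlockBasic ElevenSearch

universe u

variable {G : Type u} [Group G]

theorem finite_of_isM22 (hG : IsM22 G) : Finite G :=
  Nat.finite_of_card_ne_zero (by rw [hG.2]; norm_num)

theorem not_comm_of_isM22 (hG : IsM22 G) : ¬ IsMulCommutative G := by
  haveI := hG.1
  haveI := finite_of_isM22 hG
  exact H36.not_isMulCommutative_of_dvd Nat.prime_two Nat.prime_three (by norm_num)
    (by rw [hG.2]; norm_num) (by rw [hG.2]; norm_num)

theorem exists_ne_mul (hna : ¬ IsMulCommutative G) : ∃ a b : G, a * b ≠ b * a := by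
  by_contra! h
  exact hna ⟨⟨h⟩⟩

/-- The effect of adding options, as sums over an indexing list. -/
theorem addL_map {α : Type*} (g : α → ℤ × ℤ) : ∀ (l : List α) (st : St),
    st.addL (l.map g) = ⟨st.s + (l.map fun a => (g a).1).sum,
      st.q + (l.map fun a => (g a).1 * (g a).1).sum, st.su + (l.map fun a => (g a).2).sum,
      st.r + (l.map fun a => (g a).2 * (g a).2).sum,
      st.S + (l.map fun a => (ElevenSearch.N : ℤ) / (g a).1 * ((g a).2 * (g a).2)).sum⟩
  | [], st => by simp [St.addL]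
  | a :: l, st => by
    show (st.add (g a)).addL (l.map g) = _
    rw [addL_map g l]
    simp only [St.add, List.map_cons, List.sum_cons, St.mk.injEq]
    exact ⟨by ring, by ring, by ring, by ring, by ring⟩

/-- Degrees in the list of possibilities. -/
theorem mem_degs {d : ℕ} {F : ℤ} (hF : F = d ∨ F = -d) (hd2 : 2 ≤ d) (hd : d < 666)
    (hdvd : d ∣ ElevenSearch.N) (h11 : (11 : ℤ) ∣ F - 1) (hs : ¬ H36.BlockDegree.Small 11 F) :
    F ∈ degs := by
  have h := List.all_eq_true.1 degs_complete d (List.mem_range.2 hd)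
  have h0 : (decide (2 ≤ d) && (ElevenSearch.N % d == 0)) = true := by
    simp only [Bool.and_eq_true, decide_eq_true_eq, beq_iff_eq]
    exact ⟨hd2, Nat.mod_eq_zero_of_dvd hdvd⟩
  rw [h0, Bool.not_true, Bool.false_or, List.all_eq_true] at h
  have h1 := h F (by rcases hF with rfl | rfl <;> simp)
  have hs' : small F = false := by
    unfold H36.BlockDegree.Small at hs
    simp only [small, Bool.or_eq_false_iff, beq_eq_false_iff_ne]
    omega
  have h2 : ((F - 1) % 11 == 0 && !(small F)) = true := by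
    rw [hs', Bool.not_false, Bool.and_true, beq_iff_eq]
    exact Int.emod_eq_zero_of_dvd h11
  rw [h2, Bool.not_true, Bool.false_or] at h1
  exact List.contains_iff_mem.1 h1

/-- The case of two orbits. -/
theorem no_two : degs.all (fun F => !(ElevenSearch.N % (F + 1).natAbs == 0)) = true := by
  decide

/-- The orders of the `11'`-part of the centraliser for ten orbits. -/
theorem ten_coSize : ((List.range 4033).all fun L =>
    !(4032 % L == 0 && L % 11 == 6) || [4032, 336, 72, 28, 6].contains L) = true := by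
  decide +kernel

/-- The orders of the `11'`-part of the centraliser for five orbits. -/
theorem five_coSize : ((List.range 8065).all fun L =>
    !(8064 % L == 0 && L % 11 == 1 && L % 2 == 1) || L == 1) = true := by
  decide +kernel

variable [Fintype G]

/-- An integral value whose multiple by the class size over the degree is integral. -/
theorem dvd_index_mul (χ : IrrCharacter G) {z : G} {v : ℤ} (hv : (χ : G → ℂ) z = v) :
    (charDegree (χ : G → ℂ) : ℤ) ∣ ((centralizer ({z} : Set G)).index : ℤ) * v := by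
  have h := H83.omega_class_isIntegral χ.2 z
  rw [hv, apply_one_eq_charDegree] at h
  have hq : ((centralizer ({z} : Set G)).index : ℂ) * (v : ℂ) / (charDegree (χ : G → ℂ) : ℂ) =
      algebraMap ℚ ℂ (((centralizer ({z} : Set G)).index : ℚ) * (v : ℚ) /
        (charDegree (χ : G → ℂ) : ℚ)) := by simp
  rw [hq, isIntegral_algebraMap_iff (algebraMap ℚ ℂ).injective] at h
  obtain ⟨k, hk⟩ := IsIntegrallyClosed.isIntegral_iff.1 h
  have hd : (charDegree (χ : G → ℂ) : ℚ) ≠ 0 := Nat.cast_ne_zero.2 (charDegree_pos χ).ne'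
  rw [eq_div_iff hd] at hk
  refine ⟨k, ?_⟩
  have : ((((centralizer ({z} : Set G)).index : ℤ) * v : ℤ) : ℚ) =
      (((charDegree (χ : G → ℂ) : ℤ) * k : ℤ) : ℚ) := by
    push_cast
    rw [← hk]
    simp [mul_comm]
  exact_mod_cast this

/-- The sum of the squares of the values over a set of characters. -/
theorem sum_sq_le_centralizer {z : G} {v : IrrCharacter G → ℤ} (hv : ∀ χ : IrrCharacter G, (χ : G → ℂ) z = v χ)
    (S : Finset (IrrCharacter G)) :
    ∑ χ ∈ S, v χ ^ 2 ≤ (Nat.card (centralizer ({z} : Set G)) : ℤ) := by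
  refine le_trans (Finset.sum_le_sum_of_subset_of_nonneg (Finset.subset_univ _)
    fun χ _ _ => sq_nonneg _) (le_of_eq ?_)
  have h := second_orthogonality_self (G := G) z
  simp only [hv, map_intCast, ← sq] at h
  exact_mod_cast h

/-- The sum of the squares of the degrees over a set of characters. -/
theorem sum_deg_sq_le (S : Finset (IrrCharacter G)) :
    ∑ χ ∈ S, (charDegree (χ : G → ℂ) : ℤ) ^ 2 ≤ (Nat.card G : ℤ) := by
  refine le_trans (Finset.sum_le_sum_of_subset_of_nonneg (Finset.subset_univ _)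
    fun χ _ _ => sq_nonneg _) (le_of_eq ?_)
  have h := sum_sq_degree (G := G)
  simp only [apply_one_eq_charDegree] at h
  exact_mod_cast h

section Block

local instance factEleven : Fact (Nat.Prime 11) := ⟨by norm_num⟩

variable (D : SmallExc.PBlk G 11)

theorem relIndex_eq_e :
    (centralizer ((D.P : Subgroup G) : Set G)).relIndex (normalizer (D.P : Set G)) = D.e := rfl

variable [IsSimpleGroup G]

theorem not_small_X (hna : ¬ IsMulCommutative G) {χ : IrrCharacter G} (hχ : χ ∈ D.X) {z : G}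
    (hzC : z ∈ Cent D) (hz : orderOf z = 2) :
    ¬ H36.BlockDegree.Small 11 (D.εX χ * charDegree (χ : G → ℂ)) := by
  obtain ⟨x, hx, hx1⟩ := D.exists_ne_one
  refine H36.BlockDegree.not_small hna (IsIrr.isCharacter χ.2) (by norm_num) Nat.prime_two
    (by norm_num) (orderOf_mem D hx hx1) hz (commute_mem D hx hzC) (D.sign χ hχ) (fun i j hi => ?_)
    (apply_one_eq_charDegree χ)
  refine D.valX χ hχ _ (pow_mem hx i) (fun h => hi ?_) _ (pow_mem hzC j) (fun h => ?_)
  · rw [← orderOf_mem D hx hx1]; exact orderOf_dvd_of_pow_eq_one h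
  · have h2 := h.trans ((orderOf_pow_dvd (x := z) j).trans hz.dvd)
    norm_num at h2

theorem not_small_Y (hna : ¬ IsMulCommutative G) {θ : IrrCharacter G} (hθ : θ ∈ D.Y) {z : G}
    (hzC : z ∈ Cent D) (hz : orderOf z = 2) :
    ¬ H36.BlockDegree.Small 11 (-D.ε * ((D.Y.card * charDegree (θ : G → ℂ) : ℕ) : ℤ)) := by
  obtain ⟨x, hx, hx1⟩ := D.exists_ne_one
  haveI := Abelian.isMulCommutative_sylow D.P D.card_P
  have hchar : IsCharacter G (fun g => ∑ θ ∈ D.Y, (θ : G → ℂ) g) := by
    have h := IsChar.sum D.Y (fun θ : IrrCharacter G => (θ : G → ℂ))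
      (fun θ _ => IsIrr.isCharacter θ.2)
    convert h using 1
    funext g
    rw [Finset.sum_apply]
  refine H36.BlockDegree.not_small hna hchar (by norm_num) Nat.prime_two (by norm_num)
    (orderOf_mem D hx hx1) hz (commute_mem D hx hzC) (δ := -D.ε)
    (by rcases D.hε with h | h <;> simp [h]) (fun i j hi => ?_) ?_
  · have hxi : x ^ i ≠ 1 := fun h => hi (orderOf_mem D hx hx1 ▸ orderOf_dvd_of_pow_eq_one h)
    have hzj : ¬ 11 ∣ orderOf (z ^ j) := fun h => by
      have h2 := h.trans ((orderOf_pow_dvd (x := z) j).trans hz.dvd)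
      norm_num at h2
    show ∑ θ ∈ D.Y, (θ : G → ℂ) (x ^ i * z ^ j) = _
    rw [Finset.sum_congr rfl fun θ hθ => Abelian.apply_mul_eq D.P D.card_P D.hM
      ((D.mem_iff θ).2 (Or.inr hθ)) (pow_mem hx i) hxi (pow_mem hzC j) hzj,
      sum_Y_singular D (pow_mem hx i) hxi]
    push_cast; rfl
  · show ∑ θ ∈ D.Y, (θ : G → ℂ) 1 = _
    rw [Finset.sum_congr rfl fun θ' hθ' => by rw [apply_one_eq_charDegree, D.degree_Y hθ' hθ],
      Finset.sum_const, nsmul_eq_mul]
    push_cast; rfl

set_option maxHeartbeats 1000000 in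
/-- An involution centralising the Sylow subgroup is impossible. -/
theorem no_involution (hG : IsM22 G) (he : D.e = 5 ∨ D.e = 10)
    (hL : D.e = 10 → coSize D ∈ ([336, 72, 28, 6] : List ℕ)) {z : G} (hzC : z ∈ Cent D)
    (hz : orderOf z = 2) : False := by
  have hna := not_comm_of_isM22 hG
  have hN : Nat.card G = ElevenSearch.N := hG.2
  obtain ⟨x, hx, hx1⟩ := D.exists_ne_one
  have hzreg : ¬ 11 ∣ orderOf z := by rw [hz]; norm_num
  set C := centralizer ({z} : Set G) with hC
  set c := Nat.card C with hc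
  set h := C.index with hh
  have hch : c * h = ElevenSearch.N := hN ▸ C.card_mul_index
  -- the order of the centraliser
  have h11 : 11 ∣ c := by
    rw [← orderOf_mem D hx hx1]
    exact orderOf_dvd_natCard C (mem_centralizer_singleton_iff.2 (commute_mem D hx hzC).eq)
  have h2 : 2 ∣ c := by
    rw [← hz]
    exact orderOf_dvd_natCard C (mem_centralizer_singleton_iff.2 rfl)
  have hclt : c ≠ ElevenSearch.N := by
    intro hcN
    have htop : C = ⊤ := eq_top_of_card_eq C (hcN.trans hN.symm)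
    have hzc : z ∈ center G := mem_center_iff.2 fun g => by
      have hg : g ∈ C := htop ▸ mem_top g
      exact (mem_centralizer_singleton_iff.1 hg)
    rw [H36.center_eq_bot_of_simple hna, mem_bot] at hzc
    rw [hzc, orderOf_one] at hz
    norm_num at hz
  obtain ⟨k, hk⟩ : 22 ∣ c := (Nat.Coprime.mul_dvd_of_dvd_of_dvd (by norm_num : Nat.Coprime 2 11) h2 h11)
  have hkh : k * h = 20160 := by rw [hk] at hch; unfold ElevenSearch.N at hch; nlinarith [hch]
  have hklt : k < 20160 := by
    rcases Nat.lt_or_ge k 20160 with hlt | hge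
    · exact hlt
    · exfalso
      refine hclt ?_
      have := Nat.le_of_dvd (by norm_num) ⟨h, hkh.symm⟩
      rw [hk, show k = 20160 by omega]; rfl
  have hmem : k ∈ cofactors := List.mem_filter.2 ⟨List.mem_range.2 hklt, by
    simp [Nat.mod_eq_zero_of_dvd (⟨h, hkh.symm⟩ : k ∣ 20160)]⟩
  have hk0 : 0 < k := by rcases Nat.eq_zero_or_pos k with e | e <;> [(subst e; simp at hkh); exact e]
  have hheq : ElevenSearch.N / c = h := Nat.div_eq_of_eq_mul_right Nat.card_pos hch.symm
  have hchk := List.all_eq_true.1 check_all k hmem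
  simp only [checkOne, ← hk, hheq, Bool.and_eq_true] at hchk
  obtain ⟨⟨hsort, hchk5⟩, hchk10⟩ := hchk
  -- the values at z
  have hval : ∀ χ : IrrCharacter G, ∃ a : ℤ, (χ : G → ℂ) z = a ∧ (χ ≠ trivialIrr →
      (4 : ℤ) ∣ (charDegree (χ : G → ℂ) : ℤ) - a ∧ -(charDegree (χ : G → ℂ) : ℤ) < a ∧
        a < (charDegree (χ : G → ℂ) : ℤ)) := by
    intro χ
    by_cases hχ : χ = trivialIrr
    · exact ⟨1, by rw [hχ, Int.cast_one]; rfl, fun h => absurd hχ h⟩
    · obtain ⟨a, h1, h2⟩ := Compute.G22.invol_value (exists_ne_mul hna) (χ := χ)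
        (fun h => hχ (Subtype.ext h)) rfl hz
      exact ⟨a, h1, fun _ => h2⟩
  choose v hv hvr using hval
  have hv1 : v trivialIrr = 1 := by
    have h' : ((v trivialIrr : ℤ) : ℂ) = ((1 : ℤ) : ℂ) := by rw [← hv, Int.cast_one]; rfl
    exact Int.cast_injective h'
  -- the options of the non-exceptional characters
  set g : IrrCharacter G → ℤ × ℤ := fun χ =>
    (D.εX χ * charDegree (χ : G → ℂ), D.εX χ * v χ) with hg
  set X' := D.X.erase trivialIrr with hX'
  have hsq : ∀ χ ∈ D.X, D.εX χ * D.εX χ = 1 := fun χ hχ => by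
    rcases D.sign χ hχ with e | e <;> simp [e]
  have hXdeg := sum_deg_sq_le (D.X ∪ D.Y)
  have hXval := sum_sq_le_centralizer hv (D.X ∪ D.Y)
  rw [Finset.sum_union D.disj] at hXdeg hXval
  rw [hN] at hXdeg
  obtain ⟨θ, hθ⟩ := D.Y_nonempty
  set d := (charDegree (θ : G → ℂ) : ℤ) with hd
  rw [Finset.sum_congr rfl (g := fun _ => d ^ 2) (fun θ' hθ' => by rw [D.degree_Y hθ' hθ] :
    ∀ θ' ∈ D.Y, (charDegree (θ' : G → ℂ) : ℤ) ^ 2 = d ^ 2), Finset.sum_const, nsmul_eq_mul] at hXdeg
  have hvY : ∀ θ' ∈ D.Y, v θ' = v θ := fun θ' hθ' => by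
    have h := D.agree θ' hθ' θ hθ z hzreg
    rw [hv, hv] at h
    exact_mod_cast h
  rw [Finset.sum_congr rfl (g := fun _ => v θ ^ 2) (fun θ' hθ' => by rw [hvY θ' hθ'] :
      ∀ θ' ∈ D.Y, v θ' ^ 2 = v θ ^ 2),
    Finset.sum_const, nsmul_eq_mul, ← Finset.add_sum_erase _ _ D.trivX, hv1] at hXval
  rw [← Finset.add_sum_erase _ _ D.trivX, (SmallExc.PBlk.charDegree_triv D)] at hXdeg
  have hopt : ∀ χ ∈ X', g χ ∈ opts c h ∧ ((g χ).1 : ℤ) ∣ (ElevenSearch.N : ℤ) := by
    intro χ hχ
    obtain ⟨hχ1, hχX⟩ := Finset.mem_erase.1 hχ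
    obtain ⟨h4, hlo, hhi⟩ := hvr χ hχ1
    set n := charDegree (χ : G → ℂ) with hn
    have hn2 : 2 ≤ n := by omega
    have hndvd : n ∣ ElevenSearch.N := hN ▸ H83.charDegree_dvd_card χ.2
    have hn666 : n < 666 := by
      have hle : (n : ℤ) ^ 2 ≤ ∑ χ ∈ X', (charDegree (χ : G → ℂ) : ℤ) ^ 2 :=
        Finset.single_le_sum (f := fun χ : IrrCharacter G => (charDegree (χ : G → ℂ) : ℤ) ^ 2)
          (fun _ _ => sq_nonneg _) hχ
      rw [hX'] at hle
      by_contra hge
      have h1 : (666 : ℤ) ^ 2 ≤ (n : ℤ) ^ 2 := pow_le_pow_left₀ (by norm_num) (by omega) 2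
      have h2 : (0 : ℤ) ≤ (D.Y.card : ℤ) * d ^ 2 := by positivity
      unfold ElevenSearch.N at hXdeg
      push_cast at hXdeg
      omega
    have hs := D.sign χ hχX
    have hu11 : (11 : ℤ) ∣ D.εX χ * v χ - 1 := by
      obtain ⟨m, hm⟩ := Int.modEq_iff_dvd.1 (val_X_modEq D hχX hzC hzreg (hv χ)).symm
      exact ⟨D.εX χ * m, by linear_combination D.εX χ * hm + hsq χ hχX⟩
    have hF11 : (11 : ℤ) ∣ D.εX χ * n - 1 := by
      obtain ⟨m, hm⟩ := Int.modEq_iff_dvd.1 (D.degX χ hχX).symm
      exact ⟨D.εX χ * m, by linear_combination D.εX χ * hm + hsq χ hχX⟩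
    have hFdegs : D.εX χ * n ∈ degs := mem_degs (by rcases hs with e | e <;> simp [e]) hn2 hn666
      hndvd hF11 (not_small_X D hna hχX hzC hz)
    have hdvd : D.εX χ * n ∣ (h : ℤ) * (D.εX χ * v χ) := by
      rw [mul_left_comm]
      exact mul_dvd_mul_left _ (dvd_index_mul χ (hv χ))
    have hc1 : v χ ^ 2 < (c : ℤ) := by
      have hle : v χ ^ 2 ≤ ∑ χ ∈ X', v χ ^ 2 :=
        Finset.single_le_sum (f := fun χ : IrrCharacter G => v χ ^ 2) (fun _ _ => sq_nonneg _) hχ
      have h2 : (0 : ℤ) ≤ (D.Y.card : ℤ) * v θ ^ 2 := by positivity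
      linarith
    refine ⟨List.mem_flatMap.2 ⟨_, hFdegs, List.mem_map.2 ⟨(D.εX χ * v χ - 1) / 11 + 61,
      List.mem_filter.2 ⟨?_, ?_⟩, ?_⟩⟩, ?_⟩
    · refine List.mem_flatMap.2 ⟨((D.εX χ * v χ - 1) / 11 + 61).toNat, List.mem_range.2 ?_,
        List.mem_singleton.2 ?_⟩ <;> rcases hs with e | e <;> rw [e] at hu11 ⊢ <;> omega
    · have hi : (1 : ℤ) + 11 * ((D.εX χ * v χ - 1) / 11 + 61 - 61) = D.εX χ * v χ := by
        rcases hs with e | e <;> rw [e] at hu11 ⊢ <;> omega
      simp only [hi, Bool.and_eq_true, decide_eq_true_eq, beq_iff_eq]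
      refine ⟨⟨⟨?_, ?_⟩, Int.emod_eq_zero_of_dvd hdvd⟩, ?_⟩
      · rcases hs with e | e <;> rw [e] <;> omega
      · rcases hs with e | e <;> rw [e] <;> omega
      · rw [mul_mul_mul_comm, hsq χ hχX, one_mul, ← sq]; exact hc1
    · simp only [hg, Prod.mk.injEq, true_and]
      rcases hs with e | e <;> rw [e] at hu11 ⊢ <;> omega
    · simp only [hg]
      rcases hs with e | e <;> rw [e] <;> simpa using (Int.natCast_dvd_natCast.2 hndvd)
  -- the state
  set L := X'.toList.map g with hL'
  have hlen : L.length + 1 = D.e := by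
    rw [hL', List.length_map, Finset.length_toList, hX', Finset.card_erase_of_mem D.trivX, D.cardX,
      relIndex_eq_e D]
    have := D.e_pos; omega
  set T := D.ε * d with hT
  set w := D.ε * v θ with hw
  have hs : 1 + ∑ χ ∈ X', D.εX χ * (charDegree (χ : G → ℂ) : ℤ) = T := by
    rw [hT, hd, D.rel_one hθ, ← Finset.add_sum_erase _ _ D.trivX, (SmallExc.PBlk.εX_triv D),
      (SmallExc.PBlk.charDegree_triv D), Nat.cast_one, mul_one]
  have hsu : 1 + ∑ χ ∈ X', D.εX χ * v χ = w := by
    rw [hw, sign_eq D hzreg (fun χ _ => hv χ) hθ, ← Finset.add_sum_erase _ _ D.trivX,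
      (SmallExc.PBlk.εX_triv D), hv1, mul_one]
  set SN := (ElevenSearch.N : ℤ) + ∑ χ ∈ X', (ElevenSearch.N : ℤ) / (D.εX χ * charDegree (χ : G → ℂ)) *
      (D.εX χ * v χ * (D.εX χ * v χ)) with hSN
  have hst : St.init.addL L = ⟨T, 1 + ∑ χ ∈ X', (charDegree (χ : G → ℂ) : ℤ) ^ 2, w,
      1 + ∑ χ ∈ X', v χ ^ 2, SN⟩ := by
    rw [hL', addL_map]
    simp only [St.init, hg, Finset.sum_map_toList, St.mk.injEq]
    refine ⟨hs, ?_, hsu, ?_, hSN.symm⟩ <;> congr 1 <;> refine Finset.sum_congr rfl fun χ hχ => ?_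
    · rw [mul_mul_mul_comm, hsq χ (Finset.mem_of_mem_erase hχ), one_mul, sq]
    · rw [mul_mul_mul_comm, hsq χ (Finset.mem_of_mem_erase hχ), one_mul, sq]
  have hεsq : D.ε * D.ε = 1 := by rcases D.hε with e | e <;> simp [e]
  have hθtriv : θ ≠ trivialIrr := fun e => Finset.disjoint_left.1 D.disj D.trivX (e ▸ hθ)
  obtain ⟨hw4, hwlo, hwhi⟩ := hvr θ hθtriv
  have hTN : T ∣ (ElevenSearch.N : ℤ) := by
    have hdd : d ∣ (ElevenSearch.N : ℤ) :=
      Int.natCast_dvd_natCast.2 (hN ▸ H83.charDegree_dvd_card θ.2)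
    rw [hT]
    rcases D.hε with e | e <;> simpa [e] using hdd
  have hTe : (11 : ℤ) ∣ T - D.e := by
    obtain ⟨m, hm⟩ := Int.modEq_iff_dvd.1 (D.degY θ hθ).symm
    rw [relIndex_eq_e D] at hm
    exact ⟨D.ε * m, by rw [hT, hd]; linear_combination D.ε * hm + (D.e : ℤ) * hεsq⟩
  have hwe : (11 : ℤ) ∣ w - D.e := by
    obtain ⟨m, hm⟩ := Int.modEq_iff_dvd.1 (val_Y_modEq D hθ hzC hzreg (hv θ)).symm
    exact ⟨D.ε * m, by rw [hw]; linear_combination D.ε * hm + (D.e : ℤ) * hεsq⟩
  have hhw : T ∣ (h : ℤ) * w := by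
    rw [hT, hw, mul_left_comm]
    exact mul_dvd_mul_left _ (dvd_index_mul θ (hv θ))
  have hTnat : T.natAbs = charDegree (θ : G → ℂ) := by
    rw [hT, hd]; rcases D.hε with e | e <;> simp [e]
  have hwnat : w.natAbs = (v θ).natAbs := by
    rw [hw]; rcases D.hε with e | e <;> simp [e]
  have hsmall : ¬ H36.BlockDegree.Small 11 (-(D.Y.card : ℤ) * T) := by
    have h' := not_small_Y D hna hθ hzC hz
    rw [show -D.ε * ((D.Y.card * charDegree (θ : G → ℂ) : ℕ) : ℤ) = -(D.Y.card : ℤ) * T by
      rw [hT, hd]; push_cast; ring] at h'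
    exact h'
  have hsmall' : small (-(D.Y.card : ℤ) * T) = false := by
    unfold H36.BlockDegree.Small at hsmall
    simp only [small, Bool.or_eq_false_iff, beq_eq_false_iff_ne]
    omega
  have hOK : excOK D.e D.Y.card c h (St.init.addL L) = true := by
    rw [hst]
    simp only [excOK, Bool.and_eq_true, decide_eq_true_eq, beq_iff_eq, hsmall', Bool.not_false,
      hTnat, hwnat, and_true]
    refine ⟨⟨⟨⟨⟨⟨⟨⟨?_, ?_⟩, ?_⟩, ?_⟩, ?_⟩, ?_⟩, ?_⟩, ?_⟩, ?_⟩
    · omega
    · exact Nat.mod_eq_zero_of_dvd (hN ▸ H83.charDegree_dvd_card θ.2)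
    · exact Int.emod_eq_zero_of_dvd hTe
    · rw [hT, mul_mul_mul_comm, hεsq, one_mul, ← sq]
      push_cast at hXdeg
      linarith
    · exact Int.emod_eq_zero_of_dvd hwe
    · omega
    · rw [hT, hw]; rcases D.hε with e | e <;> rw [e] <;> omega
    · exact Int.emod_eq_zero_of_dvd hhw
    · rw [hw, mul_mul_mul_comm, hεsq, one_mul, ← sq]
      linarith
  -- the weighted sum of squares
  have hnum : ((sqNum (St.init.addL L) : ℤ) : ℚ) = (ElevenSearch.N : ℚ) * sqSum D v θ := by
    rw [hst, sqNum, hSN, sqSum, ← Finset.add_sum_erase _ _ D.trivX, (SmallExc.PBlk.εX_triv D), hv1,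
      (SmallExc.PBlk.charDegree_triv D), mul_sub, mul_add]
    push_cast [Int.cast_sum]
    have hX : ∀ χ ∈ X', (((ElevenSearch.N : ℤ) / (D.εX χ * charDegree (χ : G → ℂ)) : ℤ) : ℚ) *
        ((D.εX χ : ℚ) * v χ * ((D.εX χ : ℚ) * v χ)) =
        (ElevenSearch.N : ℚ) * ((D.εX χ : ℚ) * (v χ : ℚ) ^ 2 / (charDegree (χ : G → ℂ) : ℚ)) := by
      intro χ hχ
      have h1 : ((D.εX χ : ℚ) * (charDegree (χ : G → ℂ) : ℚ)) ≠ 0 := by
        have := charDegree_pos χ
        rcases D.sign χ (Finset.mem_of_mem_erase hχ) with e | e <;> simp [e] <;> omega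
      rw [Int.cast_div (by simpa [hg] using (hopt χ hχ).2) (by push_cast; exact h1)]
      push_cast
      have h2 : (D.εX χ : ℚ) * (D.εX χ : ℚ) = 1 := by
        exact_mod_cast hsq χ (Finset.mem_of_mem_erase hχ)
      have h3 : (charDegree (χ : G → ℂ) : ℚ) ≠ 0 := Nat.cast_ne_zero.2 (charDegree_pos χ).ne'
      have h4 : (D.εX χ : ℚ) ≠ 0 := fun e => by rw [e] at h2; simp at h2
      field_simp
    rw [Finset.mul_sum, ← Finset.sum_congr rfl hX]
    have hT0 : (T : ℚ) ≠ 0 := by
      have := charDegree_pos θ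
      exact_mod_cast (show T ≠ 0 by omega)
    rw [Int.cast_div hTN (by exact_mod_cast (show T ≠ 0 by exact_mod_cast hT0))]
    have h2 : (D.ε : ℚ) * (D.ε : ℚ) = 1 := by exact_mod_cast hεsq
    have h3 : (charDegree (θ : G → ℂ) : ℚ) ≠ 0 := Nat.cast_ne_zero.2 (charDegree_pos θ).ne'
    have h4 : (D.ε : ℚ) ≠ 0 := fun e => by rw [e] at h2; simp at h2
    rw [hT, hw, hd]
    push_cast
    field_simp
  have hrule := square_rule hx hx1 (by norm_num) hz (fun χ _ => hv χ) hθ
  rw [hN, ← hC, ← hh] at hrule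
  have hYc : D.Y.card = 10 / D.e := by rw [D.cardY, relIndex_eq_e D]
  have hNq : (ElevenSearch.N : ℚ) ≠ 0 := by norm_num [ElevenSearch.N]
  have hq : (St.init.addL L).q ≤ (ElevenSearch.N : ℤ) := by
    rw [hst]
    have h2 : (0 : ℤ) ≤ (D.Y.card : ℤ) * d ^ 2 := by positivity
    push_cast at hXdeg
    linarith
  have hr : (St.init.addL L).r ≤ (c : ℤ) := by
    rw [hst]
    have h2 : (0 : ℤ) ≤ (D.Y.card : ℤ) * v θ ^ 2 := by positivity
    linarith
  have hall : ∀ o ∈ L, o ∈ opts c h := fun o ho => by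
    obtain ⟨χ, hχ, rfl⟩ := List.mem_map.1 ho
    exact (hopt χ (Finset.mem_toList.1 hχ)).1
  rcases he with he | he
  · have hleaf := searchF_sound _ _ _ _ hsort hchk5 L (by omega) hall hq hr
    rw [he] at hOK hYc
    rw [hYc] at hOK
    rw [leaf5, hOK, Bool.not_true, Bool.false_or] at hleaf
    have h0 : nInv z x = 0 := nInv_eq_zero_of_odd hx hx1 (by norm_num) ⟨2, by omega⟩ hz
    rw [h0, Nat.cast_zero, zero_pow (by norm_num), mul_zero, mul_eq_zero] at hrule
    have hsum0 : sqSum D v θ = 0 := by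
      refine hrule.resolve_left (Nat.cast_ne_zero.2 ?_)
      refine mul_ne_zero (mul_ne_zero (by norm_num) ?_) (pow_ne_zero _ index_ne_zero_of_finite)
      intro e
      have := card_cent D
      rw [e, mul_zero] at this
      exact Nat.card_pos.ne' this
    rw [hsum0, mul_zero] at hnum
    have h00 : sqNum (St.init.addL L) = 0 := by exact_mod_cast hnum
    rw [h00] at hleaf
    simp at hleaf
  · have hleaf := searchF_sound _ _ _ _ hsort hchk10 L (by omega) hall hq hr
    rw [he] at hOK hYc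
    rw [hYc] at hOK
    rw [leaf10, hOK, Bool.not_true, Bool.false_or, List.all_eq_true] at hleaf
    have hleafL := hleaf (coSize D) (hL he)
    set A := nInv z x with hA
    have hkey : (11 : ℤ) * (coSize D : ℤ) * ((h : ℤ) * h) * sqNum (St.init.addL L) =
        (A : ℤ) * A * ((ElevenSearch.N : ℤ) * ElevenSearch.N) := by
      have : (((11 : ℤ) * (coSize D : ℤ) * ((h : ℤ) * h) * sqNum (St.init.addL L) : ℤ) : ℚ) =
          (((A : ℤ) * A * ((ElevenSearch.N : ℤ) * ElevenSearch.N) : ℤ) : ℚ) := by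
        push_cast at hrule ⊢
        rw [hnum]
        linear_combination (ElevenSearch.N : ℚ) * hrule
      exact_mod_cast this
    simp only [hkey, Int.mul_emod_left, beq_self_eq_true, Bool.not_true, Bool.false_or,
      Bool.and_eq_true, decide_eq_true_eq, List.all_eq_true, Bool.not_eq_true', beq_eq_false_iff_ne]
      at hleafL
    obtain ⟨hlt, hne⟩ := hleafL
    have hA25 : A < 25 := by
      by_contra hge
      have h1 : (625 : ℤ) ≤ (A : ℤ) * A := by nlinarith
      have h2 : (0 : ℤ) ≤ (ElevenSearch.N : ℤ) * ElevenSearch.N := mul_self_nonneg _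
      nlinarith
    exact hne A (List.mem_range.2 hA25) rfl

end Block

omit [Fintype G] in
/-- A Sylow 11-subgroup is self-centralising, of index five in its normaliser. -/
theorem eleven (hG : IsM22 G) (P : Sylow 11 G) :
    centralizer ((P : Subgroup G) : Set G) = (P : Subgroup G) ∧
      (centralizer ((P : Subgroup G) : Set G)).relIndex (normalizer (P : Set G)) = 5 := by
  haveI := finite_of_isM22 hG
  haveI := hG.1
  haveI : Fact (Nat.Prime 11) := ⟨by norm_num⟩
  letI := Fintype.ofFinite G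
  have hna := not_comm_of_isM22 hG
  have hN : Nat.card G = ElevenSearch.N := hG.2
  have hP : Nat.card (P : Subgroup G) = 11 := by
    rw [Sylow.card_eq_multiplicity, hN]
    have : (ElevenSearch.N).factorization 11 = 1 := by
      unfold ElevenSearch.N
      refine le_antisymm ?_ ((Nat.Prime.dvd_iff_one_le_factorization (by norm_num) (by norm_num)).1
        (by norm_num))
      by_contra h
      have := (Nat.Prime.pow_dvd_iff_le_factorization (p := 11) (k := 2) (n := 443520) (by norm_num)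
        (by norm_num)).2 (by omega)
      norm_num at this
    rw [this, pow_one]
  obtain ⟨D, rfl⟩ := SmallExc.exists_pblk P hP
  -- arithmetic
  set n := Nat.card (Sylow 11 G) with hn
  have hn1 : n % 11 = 1 := by
    have := card_sylow_modEq_one 11 G
    exact this
  have hn2 : n ≠ 1 := by
    intro h1
    have hnorm : (D.P : Subgroup G).Normal := by
      rw [← normalizer_eq_top_iff, ← index_eq_one]
      exact (Sylow.card_eq_index_normalizer D.P).symm.trans h1
    rcases hnorm.eq_bot_or_eq_top with e | e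
    · rw [e, card_bot] at hP; norm_num at hP
    · rw [e, card_top, hN] at hP
      norm_num [ElevenSearch.N] at hP
  have hprod : n * D.e * coSize D = 40320 := by
    have h1 := (centralizer ((D.P : Subgroup G) : Set G)).card_mul_index
    rw [FewSylowReduce.index_centralizer D.P, relIndex_eq_e D, hN, ← hn] at h1
    have h2 := card_cent D
    unfold Cent at h2
    rw [h2] at h1
    unfold ElevenSearch.N at h1
    nlinarith [h1]
  have hCeq : coSize D = 1 → centralizer ((D.P : Subgroup G) : Set G) = (D.P : Subgroup G) := by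
    intro h1
    refine (eq_of_le_of_card_ge (le_cent D) ?_).symm
    rw [card_cent D, h1, mul_one]
    exact hP.ge
  rw [relIndex_eq_e D]
  have hdiv : D.e ∈ Nat.divisors 10 := Nat.mem_divisors.2 ⟨D.e_dvd, by norm_num⟩
  have he : D.e = 1 ∨ D.e = 2 ∨ D.e = 5 ∨ D.e = 10 := by
    rw [show Nat.divisors 10 = {1, 2, 5, 10} by decide] at hdiv
    simpa using hdiv
  have hdata := H36.BlockDegree.exists_data hna D.P hP (relIndex_eq_e D) (card_cent D)
  obtain ⟨L, T, hlen, hF, hT2, hTd, -, -, hsum, hsq, -⟩ := hdata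
  rcases he with he | he | he | he
  · exfalso
    rw [he] at hlen
    have : L = [] := List.length_eq_zero_iff.1 (by omega)
    rw [this, List.sum_nil, add_zero] at hsum
    rw [← hsum] at hT2
    norm_num at hT2
  · exfalso
    rw [he] at hlen hprod hsq
    have hL1 : coSize D ≠ 1 := fun h1 => by rw [h1] at hprod; omega
    obtain ⟨F, rfl⟩ := List.length_eq_one_iff.1 (show L.length = 1 by omega)
    obtain ⟨hF2, hFd, hF11, hFs, -⟩ := hF F (by simp)
    simp only [List.sum_cons, List.sum_nil, add_zero, List.map_cons, List.map_nil, hN] at hsum hsq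
    unfold ElevenSearch.N at hsq
    have h666 : F.natAbs < 666 := by
      by_contra hge
      have h1 : (666 : ℤ) ^ 2 ≤ (F.natAbs : ℤ) ^ 2 := pow_le_pow_left₀ (by norm_num) (by omega) 2
      rw [Int.natCast_natAbs, sq_abs] at h1
      have h2 : (0 : ℤ) ≤ (((11 - 1) / 2 : ℕ) : ℤ) * T ^ 2 := by positivity
      omega
    have hmem := mem_degs (Int.natAbs_eq F) hF2 h666 (hN ▸ hFd) (by exact_mod_cast hF11) (hFs hL1)
    have h := List.all_eq_true.1 no_two F hmem
    rw [show F + 1 = T by omega, Nat.mod_eq_zero_of_dvd (hN ▸ hTd)] at h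
    simp at h
  · refine ⟨hCeq ?_, he⟩
    rw [he] at hprod
    by_contra hne
    rcases Nat.even_or_odd (coSize D) with hev | hodd
    · obtain ⟨z, hz⟩ := exists_prime_orderOf_dvd_card' (G := ↥(Cent D)) 2
        (by rw [card_cent D]; exact Dvd.dvd.mul_left (even_iff_two_dvd.1 hev) _)
      exact no_involution D hG (Or.inl he) (fun h => absurd (he.symm.trans h) (by norm_num)) z.2
        ((Subgroup.orderOf_coe z).trans hz)
    · have hle : coSize D ≤ 8064 := Nat.le_of_dvd (by norm_num) ⟨n, by nlinarith⟩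
      have h := List.all_eq_true.1 five_coSize (coSize D) (List.mem_range.2 (by omega))
      have hd : 8064 % coSize D = 0 := Nat.mod_eq_zero_of_dvd ⟨n, by nlinarith⟩
      have hm : coSize D % 11 = 1 := by
        have h8 : (n * coSize D) % 11 = 8064 % 11 := by rw [show n * coSize D = 8064 by nlinarith]
        rw [Nat.mul_mod, hn1, one_mul, Nat.mod_mod] at h8
        exact h8
      rw [hd, hm, Nat.odd_iff.1 hodd] at h
      simp at h
      exact hne h
  · exfalso
    rw [he] at hprod
    have hnL : n * coSize D = 4032 := by nlinarith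
    have hle : coSize D ≤ 4032 := Nat.le_of_dvd (by norm_num) ⟨n, by rw [← hnL]; ring⟩
    have h := List.all_eq_true.1 ten_coSize (coSize D) (List.mem_range.2 (by omega))
    have hd : 4032 % coSize D = 0 := Nat.mod_eq_zero_of_dvd ⟨n, by rw [← hnL]; ring⟩
    have hm : coSize D % 11 = 6 := by
      have h8 : (n * coSize D) % 11 = 4032 % 11 := by rw [hnL]
      rw [Nat.mul_mod, hn1, one_mul, Nat.mod_mod] at h8
      exact h8
    rw [hd, hm] at h
    simp at h
    have hmem : coSize D ∈ ([336, 72, 28, 6] : List ℕ) := by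
      rcases h with e | e | e | e | e
      · rw [e] at hnL; exact absurd (show n = 1 by omega) hn2
      all_goals rw [e]; simp
    obtain ⟨z, hz⟩ := exists_prime_orderOf_dvd_card' (G := ↥(Cent D)) 2
      (by rw [card_cent D]; refine Dvd.dvd.mul_left ?_ _; simp only [List.mem_cons, List.not_mem_nil, or_false] at hmem; omega)
    exact no_involution D hG (Or.inr he) (fun _ => hmem) z.2 ((Subgroup.orderOf_coe z).trans hz)

end Cfsg.Agent.H86.MTwentyTwo
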