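import Mathlib.Data.List.Basic
import Mathlib.Data.Int.Basic
import Mathlib.Data.List.Range
import Mathlib.Tactic.Linarith

/-!
Degree searches excluding elements of order 35 in a simple group of order 443520.

Below, `F` and `T` are signed degrees of non-exceptional and exceptional characters of principal
blocks, and `M` bounds the index of the centraliser of the Sylow subgroup.
-/

set_option autoImplicit false

namespace Cfsg.Agent.H86.MTwentyTwo.ThirtyFiveSearch

/-- The group order. -/
def N : ℕ := 443520

/-- The residues modulo 11 of all degrees. -/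
def res11 (d : ℕ) : Bool :=
  d % 11 == 0 || d % 11 == 1 || d % 11 == 10 || d % 11 == 5 || d % 11 == 6

/-- The excluded signed degrees. -/
def small (p : ℕ) (F : ℤ) : Bool :=
  F == 1 - (p : ℤ) || F == 1 - 2 * (p : ℤ) || F == (p : ℤ) + 1

/-- Conditions on a signed degree in a principal block. -/
def candOK (p M : ℕ) (sm : Bool) (F : ℤ) : Bool :=
  decide (2 ≤ F.natAbs) && N % F.natAbs == 0 && M % F.natAbs == 0 && (F - 1) % (p : ℤ) == 0 &&
    !(sm && small p F) && res11 F.natAbs

/-- The signed degrees for the prime 7. -/
def cand7 : List ℤ := [22, 99, -132, 176, -384]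

/-- The signed degrees for the prime 5. -/
def cand5 : List ℤ := [11, 16, -44, 66, -99, -144, 176, -264, -384, 396]

/-- The signed degrees for the prime 11. -/
def cand11 : List ℤ := [-10, 12, -21, -32, 45, 56, -120, 144, 210, -252, 320, -384, -560]

theorem cand7_complete : ((List.range 666).all fun d => [(d : ℤ), -(d : ℤ)].all fun F =>
    !(candOK 7 12672 true F) || cand7.contains F) = true := by
  decide +kernel

theorem cand5_complete : ((List.range 666).all fun d => [(d : ℤ), -(d : ℤ)].all fun F =>
    !(candOK 5 12672 true F) || cand5.contains F) = true := by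
  decide +kernel

theorem cand11_complete : ((List.range 666).all fun d => [(d : ℤ), -(d : ℤ)].all fun F =>
    !(candOK 11 N false F) || cand11.contains F) = true := by
  decide +kernel

/-- All lists of a given length with entries in `l`. -/
def tuples : ℕ → List ℤ → List (List ℤ)
  | 0, _ => [[]]
  | n + 1, l => l.flatMap fun a => (tuples n l).map (a :: ·)

theorem mem_tuples : ∀ (L : List ℤ) (l : List ℤ), (∀ F ∈ L, F ∈ l) → L ∈ tuples L.length l
  | [], _, _ => by simp [tuples]
  | a :: L, l, h => by
    refine List.mem_flatMap.2 ⟨a, h a List.mem_cons_self, List.mem_map.2 ⟨L, ?_, rfl⟩⟩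
    exact mem_tuples L l fun F hF => h F (List.mem_cons_of_mem _ hF)

/-- Conditions on the exceptional signed degree. -/
def excOK (p e M : ℕ) (sm : Bool) (L : List ℤ) : Bool :=
  let T := 1 + L.sum
  let t : ℤ := (((p - 1) / e : ℕ) : ℤ)
  decide (2 ≤ T.natAbs) && N % T.natAbs == 0 && (e * M) % T.natAbs == 0 &&
    (T - e) % (p : ℤ) == 0 && !(sm && small p (-t * T)) && res11 T.natAbs &&
    decide (1 + (L.map fun F => F * F).sum + t * (T * T) ≤ (N : ℤ))

/-- The principal block for the prime 7. -/
theorem check7 : ([1, 2, 3, 6].all fun e => (tuples (e - 1) cand7).all fun L =>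
    !(excOK 7 e 12672 true L) || (e == 3 && 1 + L.sum == -32)) = true := by
  decide +kernel

/-- The two further signed degrees in the principal block for the prime 11. -/
def pairs : List (ℤ × ℤ) :=
  [(-10, -32), (-10, 45), (12, -21), (12, 45), (12, 56), (-21, 12), (-21, -21), (-21, 56),
    (-21, 144), (-21, 210), (-21, -252), (-32, -10), (45, -10), (45, 12), (45, 144), (45, 210),
    (56, 12), (56, -21), (144, -21), (144, 45), (210, -21), (210, 45), (210, -252), (-252, -21),
    (-252, 210), (-252, 320), (320, -252)]

theorem pairs_complete : (cand11.all fun a => cand11.all fun b =>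
    !(excOK 11 5 N false [-32, -32, a, b]) || pairs.contains (a, b)) = true := by
  decide +kernel

/-- A degree compatible with the principal block for the prime 11. -/
def compat (o : ℤ × ℤ) (d : ℕ) : Bool :=
  d % 11 == 0 || ((d % 11 == 1 || d % 11 == 10) && (d == 32 || d == o.1.natAbs || d == o.2.natAbs)) ||
    ((d % 11 == 5 || d % 11 == 6) && d == (-63 + o.1 + o.2).natAbs)

/-- The conclusion for the primes 5 and 11. -/
def concl (e : ℕ) (L : List ℤ) (o : ℤ × ℤ) : Bool :=
  (e == 2 && (1 + L.sum).natAbs == 12 && !(o.1.natAbs == 12 && o.2.natAbs == 12)) ||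
    (e == 4 && (L ++ [-(1 + L.sum)]).contains (-144) &&
      ((o.1 == 144 && (o.2 == -21 || o.2 == 45)) || (o.2 == 144 && (o.1 == -21 || o.1 == 45))))

/-- The principal blocks for the primes 5 and 11. -/
theorem check5 : ([1, 2, 4].all fun e => (tuples (e - 1) cand5).all fun L =>
    !(excOK 5 e 12672 true L) || pairs.all fun o =>
      !(L.all (fun F => compat o F.natAbs) && compat o (1 + L.sum).natAbs) || concl e L o) = true := by
  decide +kernel

end Cfsg.Agent.H86.MTwentyTwo.ThirtyFiveSearch
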