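import Cfsg.Agent.H86.MTwentyTwo.Eleven
import Cfsg.Agent.H86.MTwentyTwo.BlockData
import Cfsg.Agent.H86.MTwentyTwo.ThirtyFiveSearch

/-!
A simple group of order 443520 has no element of order 35.
-/

set_option linter.unusedSectionVars false
set_option linter.style.haveILetI false

open scoped ComplexConjugate Classical

namespace Cfsg.Agent.H86.MTwentyTwo

open CharBasic Subgroup BlockBasic

universe u

variable {G : Type u} [Group G] [Fintype G] [IsSimpleGroup G]

namespace ThirtyFive

open ThirtyFiveSearch (res11 candOK excOK cand5 cand7 cand11 tuples)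

local instance factEleven : Fact (Nat.Prime 11) := ⟨by norm_num⟩

/-- A Sylow subgroup of prime order containing a given element, with its principal block. -/
theorem exists_block {p : ℕ} [hp : Fact p.Prime] (hp1 : p ∣ 443520) (hp2 : ¬ p * p ∣ 443520)
    (hG : Nat.card G = 443520) {x : G} (hx : orderOf x = p) :
    ∃ D : SmallExc.PBlk G p, x ∈ (D.P : Subgroup G) := by
  have hpg : IsPGroup p (zpowers x) := IsPGroup.of_card (n := 1) (by rw [Nat.card_zpowers, hx, pow_one])
  obtain ⟨P, hP⟩ := hpg.exists_le_sylow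
  have hcard : Nat.card (P : Subgroup G) = p := by
    rw [Sylow.card_eq_multiplicity, hG]
    have h1 := (hp.out.dvd_iff_one_le_factorization (by norm_num : (443520 : ℕ) ≠ 0)).1 hp1
    have h2 : ¬ 2 ≤ (443520 : ℕ).factorization p := fun h => hp2 (by
      rw [← sq]; exact (hp.out.pow_dvd_iff_le_factorization (by norm_num)).2 h)
    rw [show (443520 : ℕ).factorization p = 1 by omega, pow_one]
  obtain ⟨D, hD⟩ := SmallExc.exists_pblk P hcard
  exact ⟨D, hD ▸ hP (mem_zpowers x)⟩

/-- Residues of all degrees modulo 11. -/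
theorem res11_degree (D : SmallExc.PBlk G 11) (hC : Cent D = (D.P : Subgroup G)) (he : D.e = 5)
    (χ : IrrCharacter G) : res11 (charDegree (χ : G → ℂ)) = true := by
  simp only [res11, Bool.or_eq_true, beq_iff_eq]
  by_cases hX : χ ∈ D.X
  · have h := X_degree_mod D hX
    rcases D.sign χ hX with e | e <;> rw [e] at h <;> omega
  by_cases hY : χ ∈ D.Y
  · have h := Y_degree_mod D hY
    rw [he] at h
    rcases D.hε with e | e <;> rw [e] at h <;> omega
  have h := dvd_degree_outside D hC hX hY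
  omega

variable {p : ℕ} [hp : Fact p.Prime] (D : SmallExc.PBlk G p) {M : ℕ} {sm : Bool}

theorem dvd_M (hM : D.e * D.g ∣ M) {χ : IrrCharacter G} (hχ : χ ∈ D.X) :
    charDegree (χ : G → ℂ) ∣ M :=
  (D.deg_dvd_X hχ).trans hM

theorem cand_ok (hG : Nat.card G = 443520) (hna : ¬ IsMulCommutative G) (hM : D.e * D.g ∣ M)
    (hsm : sm = true → ∀ F ∈ signedX D, ¬ H36.BlockDegree.Small p F)
    (h11 : ∀ χ : IrrCharacter G, res11 (charDegree (χ : G → ℂ)) = true) {l : List ℤ}
    (hl : ((List.range 666).all fun d => [(d : ℤ), -(d : ℤ)].all fun F =>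
      !(candOK p M sm F) || l.contains F) = true) {F : ℤ} (hF : F ∈ signedX D) : F ∈ l := by
  obtain ⟨χ, hχ, hne, rfl⟩ := mem_signedX D hF
  have hnat := natAbs_sign_mul (D.sign χ hχ) (charDegree (χ : G → ℂ))
  have h2 := two_le_degree hna hne
  have hlt : charDegree (χ : G → ℂ) < 666 := by
    have h := sum_deg_sq_le ({χ} : Finset (IrrCharacter G))
    rw [Finset.sum_singleton, hG] at h
    by_contra hge
    have h1 : (666 : ℤ) ^ 2 ≤ (charDegree (χ : G → ℂ) : ℤ) ^ 2 :=
      pow_le_pow_left₀ (by norm_num) (by omega) 2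
    omega
  have h := List.all_eq_true.1 hl _ (List.mem_range.2 hlt)
  rw [List.all_eq_true] at h
  have h1 := h (D.εX χ * (charDegree (χ : G → ℂ) : ℤ))
    (by rcases D.sign χ hχ with e | e <;> simp [e])
  have hok : candOK p M sm (D.εX χ * (charDegree (χ : G → ℂ) : ℤ)) = true := by
    simp only [candOK, hnat, Bool.and_eq_true, decide_eq_true_eq, beq_iff_eq, h11 χ, and_true]
    refine ⟨⟨⟨⟨h2, Nat.mod_eq_zero_of_dvd ?_⟩, Nat.mod_eq_zero_of_dvd (dvd_M D hM hχ)⟩,
      Int.emod_eq_zero_of_dvd (X_degree_mod D hχ)⟩, ?_⟩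
    · have := H83.charDegree_dvd_card χ.2
      rwa [hG] at this
    · cases sm with
      | false => rfl
      | true =>
        have hs := hsm rfl _ hF
        unfold H36.BlockDegree.Small at hs
        have : ¬ (ThirtyFiveSearch.small p (D.εX χ * (charDegree (χ : G → ℂ) : ℤ)) = true) := by
          simp only [ThirtyFiveSearch.small, Bool.or_eq_true, beq_iff_eq]
          omega
        simpa using this
  rw [hok, Bool.not_true, Bool.false_or] at h1
  exact List.contains_iff_mem.1 h1

theorem exc_ok (hG : Nat.card G = 443520) (hna : ¬ IsMulCommutative G) (hM : D.e * D.g ∣ M)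
    {θ : IrrCharacter G} (hθ : θ ∈ D.Y)
    (hsm : sm = true → ¬ H36.BlockDegree.Small p (-(D.t : ℤ) * (D.ε * (charDegree (θ : G → ℂ) : ℤ))))
    (h11 : ∀ χ : IrrCharacter G, res11 (charDegree (χ : G → ℂ)) = true) :
    excOK p D.e M sm (signedX D) = true := by
  simp only [excOK, sum_signedX D hθ, natAbs_sign_mul D.hε, show (p - 1) / D.e = D.t from rfl,
    Bool.and_eq_true, decide_eq_true_eq, beq_iff_eq, h11 θ, and_true]
  refine ⟨⟨⟨⟨⟨two_le_degree hna (Y_ne_triv D hθ), Nat.mod_eq_zero_of_dvd ?_⟩,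
    Nat.mod_eq_zero_of_dvd ?_⟩, Int.emod_eq_zero_of_dvd (Y_degree_mod D hθ)⟩, ?_⟩, ?_⟩
  · have := H83.charDegree_dvd_card θ.2
    rwa [hG] at this
  · exact (D.deg_dvd_Y hθ).trans (by rw [mul_assoc]; exact Nat.mul_dvd_mul_left _ hM)
  · cases sm with
    | false => rfl
    | true =>
      have hs := hsm rfl
      unfold H36.BlockDegree.Small at hs
      have : ¬ (ThirtyFiveSearch.small p (-(D.t : ℤ) * (D.ε * (charDegree (θ : G → ℂ) : ℤ))) = true) := by
        simp only [ThirtyFiveSearch.small, Bool.or_eq_true, beq_iff_eq]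
        omega
      simpa using this
  · have h := sq_signedX D hθ
    rw [hG] at h
    rw [sq] at h
    exact h

/-- The index of the centraliser is bounded when a second prime divides its order. -/
theorem eg_dvd (hG : Nat.card G = 443520) {q : ℕ} (hpq : p * q = 35) (hq : q.Prime) (hne : p ≠ q)
    {y : G} (hy : y ∈ Cent D) (hyo : orderOf y = q) : D.e * D.g ∣ 12672 := by
  have h1 : q ∣ p * coSize D := by
    rw [← card_cent D, ← hyo]
    exact orderOf_dvd_natCard (Cent D) hy
  obtain ⟨k, hk⟩ := ((hq.dvd_mul).1 h1).resolve_left fun h =>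
    hne ((Nat.prime_dvd_prime_iff_eq hq hp.out).1 h).symm
  have h2 := e_mul_g_mul D
  rw [hG, hk, show D.e * D.g * (p * (q * k)) = p * q * (D.e * D.g * k) by ring, hpq] at h2
  exact ⟨k, by omega⟩

end ThirtyFive

open ThirtyFive ThirtyFiveSearch

set_option maxHeartbeats 1000000 in
omit [Fintype G] [IsSimpleGroup G] in
/-- No element has order 35. -/
theorem no_thirtyFive (hG : IsM22 G) (g : G) : orderOf g ≠ 35 := by
  intro hg
  haveI := finite_of_isM22 hG
  haveI := hG.1
  letI := Fintype.ofFinite G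
  haveI h5 : Fact (Nat.Prime 5) := ⟨by norm_num⟩
  haveI h7 : Fact (Nat.Prime 7) := ⟨by norm_num⟩
  haveI h11 : Fact (Nat.Prime 11) := ⟨by norm_num⟩
  have hna := not_comm_of_isM22 hG
  have hN : Nat.card G = 443520 := hG.2
  set x := g ^ 7 with hx
  set y := g ^ 5 with hy
  have hxo : orderOf x = 5 := by
    rw [hx, orderOf_pow_of_dvd (by norm_num) (by rw [hg]; norm_num), hg]
  have hyo : orderOf y = 7 := by
    rw [hy, orderOf_pow_of_dvd (by norm_num) (by rw [hg]; norm_num), hg]
  have hcomm : Commute x y := Commute.pow_pow (Commute.refl g) 7 5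
  set h := x * y with hh
  have hho : orderOf h = 35 := by
    rw [hh, hcomm.orderOf_mul_eq_mul_orderOf_of_coprime (by rw [hxo, hyo]; norm_num), hxo, hyo]
  obtain ⟨D5, hx5⟩ := exists_block (p := 5) (by norm_num) (by norm_num) hN hxo
  obtain ⟨D7, hy7⟩ := exists_block (p := 7) (by norm_num) (by norm_num) hN hyo
  obtain ⟨D, -⟩ : ∃ D : SmallExc.PBlk G 11, True := by
    obtain ⟨z, hz⟩ := exists_prime_orderOf_dvd_card' (G := G) 11 (by rw [hN]; norm_num)
    obtain ⟨D, -⟩ := exists_block (p := 11) (by norm_num) (by norm_num) hN hz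
    exact ⟨D, trivial⟩
  obtain ⟨hC, he⟩ := eleven hG D.P
  rw [relIndex_eq_e D] at he
  have hres := res11_degree D hC he
  have hx1 : x ≠ 1 := fun e => by rw [e, orderOf_one] at hxo; norm_num at hxo
  have hy1 : y ≠ 1 := fun e => by rw [e, orderOf_one] at hyo; norm_num at hyo
  have hyC : y ∈ Cent D5 := by
    rw [← centralizer_mem D5 hx5 hx1, mem_centralizer_singleton_iff]
    exact hcomm.eq.symm
  have hxC : x ∈ Cent D7 := by
    rw [← centralizer_mem D7 hy7 hy1, mem_centralizer_singleton_iff]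
    exact hcomm.eq
  have hy' : ¬ 5 ∣ orderOf y := by rw [hyo]; norm_num
  have hx' : ¬ 7 ∣ orderOf x := by rw [hxo]; norm_num
  have hM5 := ThirtyFive.eg_dvd D5 hN (q := 7) (by norm_num) h7.out (by norm_num) hyC hyo
  have hM7 := ThirtyFive.eg_dvd D7 hN (q := 5) (by norm_num) h5.out (by norm_num) hxC hxo
  obtain ⟨hsX5, hsY5⟩ := not_small_signed D5 hna h7.out (by norm_num) hyC hyo
  obtain ⟨hsX7, hsY7⟩ := not_small_signed D7 hna h5.out (by norm_num) hxC hxo
  obtain ⟨θ5, hθ5⟩ := D5.Y_nonempty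
  obtain ⟨θ7, hθ7⟩ := D7.Y_nonempty
  -- the prime 7
  have hlen7 := length_signedX D7
  have he7 : D7.e ∈ ([1, 2, 3, 6] : List ℕ) := by
    have h := Nat.mem_divisors.2 ⟨D7.e_dvd, by norm_num⟩
    rw [show Nat.divisors (7 - 1) = {1, 2, 3, 6} by decide] at h
    simpa using h
  have hL7 : signedX D7 ∈ tuples (D7.e - 1) cand7 := by
    rw [show D7.e - 1 = (signedX D7).length by omega]
    exact mem_tuples _ _ fun F hF =>
      cand_ok D7 hN hna hM7 (fun _ => hsX7) hres cand7_complete hF
  have h7c := List.all_eq_true.1 (List.all_eq_true.1 check7 _ he7) _ hL7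
  rw [exc_ok D7 hN hna hM7 hθ7 (fun _ => hsY7 θ7 hθ7) hres, Bool.not_true, Bool.false_or,
    Bool.and_eq_true, beq_iff_eq, beq_iff_eq, sum_signedX D7 hθ7] at h7c
  obtain ⟨he73, hT7⟩ := h7c
  have hε7 : D7.ε = -1 ∧ charDegree (θ7 : G → ℂ) = 32 := by
    rcases D7.hε with e | e <;> rw [e] at hT7 <;> constructor <;> first | exact e | omega
  have hY7 : D7.Y.card = 2 := by
    rw [card_Y_eq D7, SmallExc.PBlk.t, he73]
  obtain ⟨θa, θb, hab, hYab⟩ := Finset.card_eq_two.1 hY7
  have hdeg7 : ∀ θ ∈ D7.Y, charDegree (θ : G → ℂ) = 32 ∧ θ ∈ D.X ∧ D.εX θ = -1 := by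
    intro θ hθ
    have hd : charDegree (θ : G → ℂ) = 32 := (D7.degree_Y hθ hθ7).trans hε7.2
    have hX : θ ∈ D.X := by
      by_contra hX
      by_cases hY : θ ∈ D.Y
      · have h := Y_degree_mod D hY
        rw [hd, he] at h
        rcases D.hε with e | e <;> rw [e] at h <;> omega
      · have h := dvd_degree_outside D hC hX hY
        omega
    refine ⟨hd, hX, ?_⟩
    have h := X_degree_mod D hX
    rw [hd] at h
    rcases D.sign θ hX with e | e
    · rw [e] at h; omega
    · exact e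
  obtain ⟨hda, haX, hea⟩ := hdeg7 θa (by rw [hYab]; simp)
  obtain ⟨hdb, hbX, heb⟩ := hdeg7 θb (by rw [hYab]; simp)
  have hsum7 : (θa : G → ℂ) h + (θb : G → ℂ) h = 1 := by
    have h1 := sum_Y_section D7 hy7 hy1 hxC hx'
    rw [hYab, Finset.sum_pair hab, hε7.1, ← hcomm.eq] at h1
    rw [hh, h1]; norm_num
  -- the prime 11
  have hta : θa ≠ trivialIrr := Y_ne_triv D7 (by rw [hYab]; simp)
  have htb : θb ≠ trivialIrr := Y_ne_triv D7 (by rw [hYab]; simp)
  have hmema : θa ∈ D.X.erase trivialIrr := Finset.mem_erase.2 ⟨hta, haX⟩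
  have hmemb : θb ∈ (D.X.erase trivialIrr).erase θa :=
    Finset.mem_erase.2 ⟨hab.symm, Finset.mem_erase.2 ⟨htb, hbX⟩⟩
  have hcard : (((D.X.erase trivialIrr).erase θa).erase θb).card = 2 := by
    rw [Finset.card_erase_of_mem hmemb, Finset.card_erase_of_mem hmema,
      Finset.card_erase_of_mem D.trivX, D.cardX, relIndex_eq_e D, he]
  obtain ⟨ca, cb, hcab, hcc⟩ := Finset.card_eq_two.1 hcard
  have hsumX : ∀ {β : Type} [AddCommMonoid β] (f : IrrCharacter G → β),
      ∑ χ ∈ D.X, f χ = f trivialIrr + (f θa + (f θb + (f ca + f cb))) := by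
    intro β _ f
    rw [← Finset.add_sum_erase _ _ D.trivX, ← Finset.add_sum_erase _ _ hmema,
      ← Finset.add_sum_erase _ _ hmemb, hcc, Finset.sum_pair hcab]
  have hXcases : ∀ χ ∈ D.X, χ = trivialIrr ∨ χ = θa ∨ χ = θb ∨ χ = ca ∨ χ = cb := by
    intro χ hχ
    by_contra hno
    simp only [not_or] at hno
    have h1 : χ ∈ ((D.X.erase trivialIrr).erase θa).erase θb := by simp [hχ, hno]
    rw [hcc] at h1
    simp [hno] at h1
  have hcmem : ∀ c : IrrCharacter G, c = ca ∨ c = cb → c ∈ D.X ∧ c ≠ trivialIrr := by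
    intro c hc
    have h1 : c ∈ ((D.X.erase trivialIrr).erase θa).erase θb := by rw [hcc]; simpa using hc
    simp only [Finset.mem_erase] at h1
    exact ⟨h1.2.2.2, h1.2.2.1⟩
  obtain ⟨hcaX, hcat⟩ := hcmem ca (Or.inl rfl)
  obtain ⟨hcbX, hcbt⟩ := hcmem cb (Or.inr rfl)
  obtain ⟨θ, hθ⟩ := D.Y_nonempty
  set A := D.εX ca * (charDegree (ca : G → ℂ) : ℤ) with hA
  set B := D.εX cb * (charDegree (cb : G → ℂ) : ℤ) with hB
  have hU : -63 + A + B = D.ε * (charDegree (θ : G → ℂ) : ℤ) := by
    rw [D.rel_one hθ, hsumX fun χ => D.εX χ * (charDegree (χ : G → ℂ) : ℤ), D.εX_triv,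
      D.charDegree_triv, hea, heb, hda, hdb, hA, hB]
    ring
  have hM11 : D.e * D.g ∣ ThirtyFiveSearch.N := ⟨11 * coSize D, by
    rw [e_mul_g_mul D, hN]; rfl⟩
  have hAB : ∀ c ∈ D.X, c ≠ trivialIrr →
      D.εX c * (charDegree (c : G → ℂ) : ℤ) ∈ cand11 := fun c hc hne =>
    cand_ok D (sm := false) hN hna hM11 (fun e => absurd e (by simp)) hres cand11_complete
      (List.mem_map.2 ⟨c, Finset.mem_toList.2 (Finset.mem_erase.2 ⟨hne, hc⟩), rfl⟩)
  have hpair : (A, B) ∈ pairs := by
    have h1 := List.all_eq_true.1 (List.all_eq_true.1 pairs_complete A (hAB ca hcaX hcat)) B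
      (hAB cb hcbX hcbt)
    have hok : excOK 11 5 ThirtyFiveSearch.N false [-32, -32, A, B] = true := by
      have hsq : 1 + (1024 + (1024 + (A * A + B * B))) +
          2 * ((D.ε * (charDegree (θ : G → ℂ) : ℤ)) * (D.ε * (charDegree (θ : G → ℂ) : ℤ))) ≤
            (443520 : ℤ) := by
        have h2 := sq_signedX D hθ
        have h3 : ((signedX D).map fun F => F * F).sum = 1024 + (1024 + (A * A + B * B)) := by
          have h4 := hsumX fun χ => (D.εX χ * (charDegree (χ : G → ℂ) : ℤ)) *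
            (D.εX χ * (charDegree (χ : G → ℂ) : ℤ))
          rw [← Finset.add_sum_erase _ _ D.trivX, D.εX_triv, D.charDegree_triv, hea, heb, hda, hdb,
            ← hA, ← hB] at h4
          rw [signedX, List.map_map, Finset.sum_map_toList]
          simp only [Function.comp_def]
          norm_num at h4
          exact h4
        rw [h3, hN, SmallExc.PBlk.t, he, sq] at h2
        norm_num at h2
        exact h2
      simp only [excOK, List.sum_cons, List.sum_nil, List.map_cons, List.map_nil, add_zero,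
        show (1 : ℤ) + (-32 + (-32 + (A + B))) = -63 + A + B by ring, hU, natAbs_sign_mul D.hε,
        hres θ, Bool.false_and, Bool.not_false, Bool.and_eq_true, decide_eq_true_eq, beq_iff_eq,
        and_true]
      refine ⟨⟨⟨⟨two_le_degree hna (Y_ne_triv D hθ), ?_⟩, ?_⟩, ?_⟩, ?_⟩
      · refine Nat.mod_eq_zero_of_dvd ?_
        have := H83.charDegree_dvd_card θ.2
        rwa [hN] at this
      · refine Nat.mod_eq_zero_of_dvd ?_
        exact (D.deg_dvd_Y hθ).trans (by rw [mul_assoc, he]; exact Nat.mul_dvd_mul_left _ (he ▸ hM11))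
      · have := Y_degree_mod D hθ
        rw [he] at this
        exact Int.emod_eq_zero_of_dvd this
      · norm_num [ThirtyFiveSearch.N]
        linarith
    rw [hok, Bool.not_true, Bool.false_or] at h1
    exact List.contains_iff_mem.1 h1
  have hnA := natAbs_sign_mul (D.sign ca hcaX) (charDegree (ca : G → ℂ))
  have hnB := natAbs_sign_mul (D.sign cb hcbX) (charDegree (cb : G → ℂ))
  -- the prime 5
  have hlen5 := length_signedX D5
  have he5 : D5.e ∈ ([1, 2, 4] : List ℕ) := by
    have h := Nat.mem_divisors.2 ⟨D5.e_dvd, by norm_num⟩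
    rw [show Nat.divisors (5 - 1) = {1, 2, 4} by decide] at h
    simpa using h
  have hL5 : signedX D5 ∈ tuples (D5.e - 1) cand5 := by
    rw [show D5.e - 1 = (signedX D5).length by omega]
    exact mem_tuples _ _ fun F hF =>
      cand_ok D5 hN hna hM5 (fun _ => hsX5) hres cand5_complete hF
  have hcompat : ∀ χ : IrrCharacter G, χ ≠ trivialIrr →
      compat (A, B) (charDegree (χ : G → ℂ)) = true := by
    intro χ hne
    simp only [compat, Bool.or_eq_true, Bool.and_eq_true, beq_iff_eq]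
    by_cases hX : χ ∈ D.X
    · left; right
      refine ⟨?_, ?_⟩
      · have h := X_degree_mod D hX
        rcases D.sign χ hX with e | e <;> rw [e] at h <;> omega
      · rcases hXcases χ hX with rfl | rfl | rfl | rfl | rfl
        · exact absurd rfl hne
        · exact Or.inl (Or.inl hda)
        · exact Or.inl (Or.inl hdb)
        · exact Or.inl (Or.inr hnA.symm)
        · exact Or.inr hnB.symm
    by_cases hY : χ ∈ D.Y
    · right
      have h := Y_degree_mod D hY
      rw [he] at h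
      refine ⟨?_, ?_⟩
      · rcases D.hε with e | e <;> rw [e] at h <;> omega
      · rw [hU, natAbs_sign_mul D.hε, D.degree_Y hY hθ]
    left; left
    exact Nat.mod_eq_zero_of_dvd (dvd_degree_outside D hC hX hY)
  have h5c := List.all_eq_true.1 (List.all_eq_true.1 check5 _ he5) _ hL5
  rw [exc_ok D5 hN hna hM5 hθ5 (fun _ => hsY5 θ5 hθ5) hres, Bool.not_true, Bool.false_or,
    List.all_eq_true] at h5c
  have h5d := h5c (A, B) hpair
  have hc1 : ((signedX D5).all (fun F => compat (A, B) F.natAbs) &&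
      compat (A, B) (1 + (signedX D5).sum).natAbs) = true := by
    rw [Bool.and_eq_true, List.all_eq_true]
    refine ⟨fun F hF => ?_, ?_⟩
    · obtain ⟨χ, hχ, hne, rfl⟩ := mem_signedX D5 hF
      rw [natAbs_sign_mul (D5.sign χ hχ)]
      exact hcompat χ hne
    · rw [sum_signedX D5 hθ5, natAbs_sign_mul D5.hε]
      exact hcompat θ5 (Y_ne_triv D5 hθ5)
  rw [hc1, Bool.not_true, Bool.false_or] at h5d
  simp only [concl, Bool.or_eq_true, Bool.and_eq_true, beq_iff_eq, Bool.not_eq_true',
    Bool.and_eq_false_iff, beq_eq_false_iff_ne, sum_signedX D5 hθ5, natAbs_sign_mul D5.hε,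
    List.contains_iff_mem, List.mem_append, List.mem_singleton] at h5d
  rcases h5d with ⟨⟨he52, hd12⟩, hne12⟩ | ⟨⟨he54, h144⟩, hAB144⟩
  · -- two exceptional characters of degree 12
    have hY5 : D5.Y.card = 2 := by rw [card_Y_eq D5, SmallExc.PBlk.t, he52]
    obtain ⟨θc, θd, hcd, hYcd⟩ := Finset.card_eq_two.1 hY5
    have key : ∀ χ ∈ D5.Y, charDegree (χ : G → ℂ) = 12 ∧ (χ = ca ∨ χ = cb) := by
      intro χ hχ
      have hd : charDegree (χ : G → ℂ) = 12 := (D5.degree_Y hχ hθ5).trans hd12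
      have hX : χ ∈ D.X := by
        by_contra hX
        by_cases hY : χ ∈ D.Y
        · have h := Y_degree_mod D hY
          rw [hd, he] at h
          rcases D.hε with e | e <;> rw [e] at h <;> omega
        · have h := dvd_degree_outside D hC hX hY
          omega
      refine ⟨hd, ?_⟩
      rcases hXcases χ hX with rfl | rfl | rfl | rfl | rfl
      · exact absurd rfl (Y_ne_triv D5 hχ)
      · omega
      · omega
      · exact Or.inl rfl
      · exact Or.inr rfl
    obtain ⟨hc12, hcc'⟩ := key θc (by rw [hYcd]; simp)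
    obtain ⟨hd12', hdd'⟩ := key θd (by rw [hYcd]; simp)
    rcases hcc' with rfl | rfl <;> rcases hdd' with rfl | rfl <;>
      first | exact hcd rfl | (rcases hne12 with h | h <;> first | exact h (hnA.trans hc12) | exact h (hnA.trans hd12') | exact h (hnB.trans hc12) | exact h (hnB.trans hd12'))
  -- the character of degree 144
  obtain ⟨χ, hχd, hχt, hχh⟩ : ∃ χ : IrrCharacter G, charDegree (χ : G → ℂ) = 144 ∧
      χ ≠ trivialIrr ∧ (χ : G → ℂ) h = -1 := by
    rcases h144 with h144 | h144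
    · obtain ⟨χ, hχ, hne, hF⟩ := mem_signedX D5 h144
      have h1 := D5.valX χ hχ x hx5 hx1 y hyC hy'
      rcases D5.sign χ hχ with e | e <;> rw [e] at hF h1
      · omega
      · exact ⟨χ, by omega, hne, by rw [hh, h1]; norm_num⟩
    · have hε5 : D5.ε = 1 ∧ charDegree (θ5 : G → ℂ) = 144 := by
        rcases D5.hε with e | e <;> rw [e] at h144 <;> constructor <;> first | exact e | omega
      have h1 := sum_Y_section D5 hx5 hx1 hyC hy'
      obtain ⟨θs, hs⟩ := Finset.card_eq_one.1 (show D5.Y.card = 1 by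
        rw [card_Y_eq D5, SmallExc.PBlk.t, he54])
      rw [hs, Finset.sum_singleton, hε5.1] at h1
      refine ⟨θs, ?_, Y_ne_triv D5 (by rw [hs]; simp), by rw [hh, h1]; norm_num⟩
      rw [D5.degree_Y (by rw [hs]; simp) hθ5, hε5.2]
  have hχX : χ ∈ D.X ∧ D.εX χ = 1 := by
    have hX : χ ∈ D.X := by
      by_contra hX
      by_cases hY : χ ∈ D.Y
      · have h := Y_degree_mod D hY
        rw [hχd, he] at h
        rcases D.hε with e | e <;> rw [e] at h <;> omega
      · have h := dvd_degree_outside D hC hX hY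
        omega
    refine ⟨hX, ?_⟩
    have h := X_degree_mod D hX
    rw [hχd] at h
    rcases D.sign χ hX with e | e
    · exact e
    · rw [e] at h; omega
  have hvanish : ∀ ψ : IrrCharacter G,
      5 ∣ charDegree (ψ : G → ℂ) ∨ 7 ∣ charDegree (ψ : G → ℂ) → (ψ : G → ℂ) h = 0 := by
    rintro ψ (h1 | h1)
    · exact eq_zero_of_dvd D5 h1 (by rw [hho]; norm_num)
    · exact eq_zero_of_dvd D7 h1 (by rw [hho]; norm_num)
  have hrel := D.rel θ hθ h (by rw [hho]; norm_num)
  have hθ0 : (θ : G → ℂ) h = 0 := by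
    refine hvanish θ ?_
    have h1 := congrArg Int.natAbs hU
    rw [natAbs_sign_mul D.hε] at h1
    rcases hAB144 with ⟨ha, hb | hb⟩ | ⟨hb, ha | ha⟩ <;>
      rw [ha, hb] at h1 <;> norm_num at h1 <;> rw [← h1] <;> norm_num
  have htriv1 : ((trivialIrr : IrrCharacter G) : G → ℂ) h = 1 := rfl
  rw [hθ0, mul_zero, hsumX fun χ => (D.εX χ : ℂ) * (χ : G → ℂ) h, D.εX_triv, hea, heb, htriv1]
    at hrel
  have hval : (D.εX ca : ℂ) * (ca : G → ℂ) h + (D.εX cb : ℂ) * (cb : G → ℂ) h = -1 := by
    rcases hXcases χ hχX.1 with rfl | rfl | rfl | rfl | rfl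
    · exact absurd rfl hχt
    · omega
    · omega
    · have h0 : (cb : G → ℂ) h = 0 := by
        refine hvanish cb ?_
        rcases hAB144 with ⟨-, hb | hb⟩ | ⟨hb, ha | ha⟩ <;> omega
      rw [h0, hχh, hχX.2]; norm_num
    · have h0 : (ca : G → ℂ) h = 0 := by
        refine hvanish ca ?_
        rcases hAB144 with ⟨ha, hb | hb⟩ | ⟨-, ha | ha⟩ <;> omega
      rw [h0, hχh, hχX.2]; norm_num
  push_cast at hrel
  have : (0 : ℂ) = -1 := by linear_combination hrel - hsum7 + hval
  norm_num at this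

end Cfsg.Agent.H86.MTwentyTwo
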