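import Cfsg.Agent.H86.MTwentyTwo.Tools

/-!
The square rule for involutions inverting a Sylow subgroup of prime order, and the cases of a
self-centralising or fully fused Sylow subgroup.
-/

set_option linter.unusedSectionVars false
set_option linter.style.haveILetI false

open scoped ComplexConjugate Classical

namespace Cfsg.Agent.H86.MTwentyTwo

open CharBasic Subgroup BlockBasic

universe u

variable {G : Type u} [Group G] [Fintype G] {p : ℕ} [hp : Fact p.Prime] {D : SmallExc.PBlk G p}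
  {x : G}

/-- The weighted sum entering the square rule. -/
noncomputable def sqSum (D : SmallExc.PBlk G p) (v : IrrCharacter G → ℤ) (θ : IrrCharacter G) : ℚ :=
  ∑ χ ∈ D.X, (D.εX χ : ℚ) * (v χ : ℚ) ^ 2 / (charDegree (χ : G → ℂ) : ℚ) -
    (D.ε : ℚ) * (v θ : ℚ) ^ 2 / (charDegree (θ : G → ℂ) : ℚ)

/-- T2: the square rule. -/
theorem square_rule (hx : x ∈ (D.P : Subgroup G)) (hx1 : x ≠ 1) (h2 : p ≠ 2) {z : G}
    (hz : orderOf z = 2) {v : IrrCharacter G → ℤ}
    (hv : ∀ χ, χ ∈ D.X ∨ χ ∈ D.Y → (χ : G → ℂ) z = v χ) {θ : IrrCharacter G} (hθ : θ ∈ D.Y) :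
    ((p * coSize D * (centralizer ({z} : Set G)).index ^ 2 : ℕ) : ℚ) * sqSum D v θ =
      (Nat.card G : ℚ) * (nInv z x : ℚ) ^ 2 := by
  set h := (centralizer ({z} : Set G)).index with hh
  have hzreg : ¬ p ∣ orderOf z := by
    rw [hz]
    exact fun hd => h2 ((Nat.prime_dvd_prime_iff_eq hp.out Nat.prime_two).1 hd)
  have hcx := centralizer_mem D hx hx1
  have hpx : ∃ k, orderOf x = p ^ k := ⟨1, by rw [orderOf_mem D hx hx1, pow_one]⟩
  have hn := pNil D hx hx1
  letI : Fintype (centralizer ({x} : Set G)) := Fintype.ofFinite _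
  -- the size of the `p'`-core
  have hK : Nat.card (pPrimeCore p (centralizer ({x} : Set G))) = coSize D := by
    have h1 := card_core_mul hn
    have hcard : Nat.card ↥(centralizer ({x} : Set G)) = Nat.card ↥(Cent D) := by rw [hcx]
    rw [hcard, factorization_cent D, pow_one, card_cent D, mul_comm] at h1
    exact Nat.eq_of_mul_eq_mul_left hp.out.pos h1
  -- counting by sections
  have hF : Nat.card {q : G × G // SecPair D z x q} = ∑ c : centralizer ({x} : Set G),
      if p ∣ orderOf c then 0 else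
        Nat.card {a : G // IsConj z a ∧ IsConj z (a⁻¹ * (x * (c : G)))} := by
    let B : centralizer ({x} : Set G) → Type u := fun c =>
      {a : G // ¬ p ∣ orderOf c ∧ IsConj z a ∧ IsConj z (a⁻¹ * (x * (c : G)))}
    let f : (Σ c, B c) → {q : G × G // SecPair D z x q} := fun r =>
      ⟨(r.2.1, r.2.1⁻¹ * (x * (r.1 : G))), r.2.2.2.1, r.2.2.2.2, r.1, hcx ▸ r.1.2,
        by rw [Subgroup.orderOf_coe]; exact r.2.2.1, by simp⟩
    have hf : Function.Bijective f := by
      constructor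
      · rintro ⟨c, a, ha⟩ ⟨c', a', ha'⟩ h'
        have h1 : a = a' := congrArg (fun q : {q : G × G // SecPair D z x q} => q.1.1) h'
        subst h1
        have h3 : a⁻¹ * (x * (c : G)) = a⁻¹ * (x * (c' : G)) :=
          congrArg (fun q : {q : G × G // SecPair D z x q} => q.1.2) h'
        have h4 : c = c' := Subtype.ext (mul_left_cancel (mul_left_cancel h3))
        subst h4
        rfl
      · rintro ⟨⟨a, b⟩, ha, hb, c, hc, hc', he⟩
        simp only at ha hb he
        refine ⟨⟨⟨c, hcx.symm ▸ hc⟩, a, by rwa [Subgroup.orderOf_mk], ha, ?_⟩, ?_⟩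
        · show IsConj z (a⁻¹ * (x * c))
          rw [← he, inv_mul_cancel_left]; exact hb
        · refine Subtype.ext (Prod.ext rfl ?_)
          show a⁻¹ * (x * c) = b
          rw [← he, inv_mul_cancel_left]
    rw [← Nat.card_congr (Equiv.ofBijective f hf), Nat.card_sigma]
    refine Finset.sum_congr rfl fun c _ => ?_
    split_ifs with hc
    · haveI : IsEmpty (B c) := ⟨fun a => a.2.1 hc⟩
      exact Nat.card_of_isEmpty
    · exact Nat.card_congr (Equiv.subtypeEquivRight fun a => and_iff_right hc)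
  -- Burnside's formula and the third main theorem
  have hB : (Nat.card G : ℂ) * (Nat.card {q : G × G // SecPair D z x q} : ℂ) =
      (h : ℂ) * (h : ℂ) * (coSize D : ℂ) * (∑ χ : IrrCharacter G,
        conj ((χ : G → ℂ) z) * conj ((χ : G → ℂ) z) * (if χ ∈ principalBlock D.M G then (χ : G → ℂ) x else 0) /
          (χ : G → ℂ) 1) := by
    rw [hF, Nat.cast_sum, Finset.mul_sum, Finset.mul_sum]
    have hs : ∀ χ : IrrCharacter G, (coSize D : ℂ) *
        (if χ ∈ principalBlock D.M G then (χ : G → ℂ) x else 0) =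
        ∑ c : centralizer ({x} : Set G), if p ∣ orderOf c then 0 else (χ : G → ℂ) (x * (c : G)) := fun χ => by
      rw [sum_shift_regular D.hM hpx hn χ, hK]
    rw [Finset.sum_congr rfl (g := fun c : centralizer ({x} : Set G) => ∑ χ : IrrCharacter G,
      (h : ℂ) * (h : ℂ) * (conj ((χ : G → ℂ) z) * conj ((χ : G → ℂ) z) / (χ : G → ℂ) 1) *
        (if p ∣ orderOf c then 0 else (χ : G → ℂ) (x * (c : G)))) (fun c _ => ?_), Finset.sum_comm]
    · refine Finset.sum_congr rfl fun χ _ => ?_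
      rw [← Finset.mul_sum, ← hs χ]
      ring
    · split_ifs with hc
      · simp
      · rw [H83.card_pairs_mul_card z z, Finset.mul_sum]
        exact Finset.sum_congr rfl fun χ _ => by ring
  have hS : ∑ χ : IrrCharacter G,
      conj ((χ : G → ℂ) z) * conj ((χ : G → ℂ) z) * (if χ ∈ principalBlock D.M G then (χ : G → ℂ) x else 0) /
        (χ : G → ℂ) 1 = ((sqSum D v θ : ℚ) : ℂ) := by
    rw [← Finset.sum_subset (Finset.subset_univ (D.X ∪ D.Y)) (fun χ _ hχ => by
        have hn' : χ ∉ principalBlock D.M G := fun hh => hχ (Finset.mem_union.2 ((D.mem_iff χ).1 hh))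
        simp [hn']), Finset.sum_union D.disj, sqSum]
    push_cast
    have hX : ∀ χ ∈ D.X, conj ((χ : G → ℂ) z) * conj ((χ : G → ℂ) z) *
        (if χ ∈ principalBlock D.M G then (χ : G → ℂ) x else 0) / (χ : G → ℂ) 1 =
        (D.εX χ : ℂ) * (v χ : ℂ) ^ 2 / (charDegree (χ : G → ℂ) : ℂ) := fun χ hχ => by
      rw [if_pos ((D.mem_iff χ).2 (Or.inl hχ)), hv χ (Or.inl hχ), map_intCast, D.val_P hχ hx hx1,
        apply_one_eq_charDegree]
      ring
    have hY : ∀ χ ∈ D.Y, conj ((χ : G → ℂ) z) * conj ((χ : G → ℂ) z) *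
        (if χ ∈ principalBlock D.M G then (χ : G → ℂ) x else 0) / (χ : G → ℂ) 1 =
        (v θ : ℂ) ^ 2 / (charDegree (θ : G → ℂ) : ℂ) * (χ : G → ℂ) x := fun χ hχ => by
      rw [if_pos ((D.mem_iff χ).2 (Or.inr hχ)), D.agree χ hχ θ hθ z hzreg, hv θ (Or.inr hθ),
        map_intCast, apply_one_eq_charDegree, D.degree_Y hχ hθ]
      ring
    rw [Finset.sum_congr rfl hX, Finset.sum_congr rfl hY, ← Finset.mul_sum, sum_Y_singular D hx hx1]
    ring
  rw [hS] at hB
  have hA := card_secPair hx hx1 h2 hz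
  have hB' : (Nat.card G : ℚ) * (Nat.card {q : G × G // SecPair D z x q} : ℚ) =
      (h : ℚ) * (h : ℚ) * (coSize D : ℚ) * sqSum D v θ := by exact_mod_cast hB
  have hA' : (nInv z x : ℚ) ^ 2 = (p : ℚ) * (Nat.card {q : G × G // SecPair D z x q} : ℚ) := by
    exact_mod_cast hA.symm
  rw [hA']
  push_cast
  linear_combination -(p : ℚ) * hB'

/-- T2: the number of inverting conjugates is divisible by `p`. -/
theorem dvd_nInv (hx : x ∈ (D.P : Subgroup G)) (hx1 : x ≠ 1) (h2 : p ≠ 2) {z : G}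
    (hz : orderOf z = 2) : p ∣ nInv z x :=
  hp.out.dvd_of_dvd_pow ⟨_, (card_secPair hx hx1 h2 hz).symm⟩

theorem notMem_cent_of_inverts (hx : x ∈ (D.P : Subgroup G)) (hx1 : x ≠ 1) (h2 : p ≠ 2) {a : G}
    (ha : a * x * a⁻¹ = x⁻¹) : a ∉ Cent D := fun hc => by
  rw [← (commute_mem D hx hc).eq, mul_inv_cancel_right] at ha
  have h : orderOf x ∣ 2 := orderOf_dvd_of_pow_eq_one (by
    rw [sq]; nth_rw 1 [ha]; exact inv_mul_cancel x)
  rw [orderOf_mem D hx hx1] at h
  exact h2 ((Nat.prime_dvd_prime_iff_eq hp.out Nat.prime_two).1 h)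

/-- T2: no inverting involutions when `e` is odd. -/
theorem nInv_eq_zero_of_odd (hx : x ∈ (D.P : Subgroup G)) (hx1 : x ≠ 1) (h2 : p ≠ 2) (he : Odd D.e)
    {z : G} (hz : orderOf z = 2) : nInv z x = 0 := by
  refine Nat.card_eq_zero.2 (Or.inl ⟨fun ⟨a, ha, hax⟩ => ?_⟩)
  have hN : a ∈ normalizer (D.P : Set G) := by
    refine mem_normalizer_iff.2 fun w => ?_
    constructor
    · intro hw
      show a * w * a⁻¹ ∈ (D.P : Subgroup G)
      rw [inverts_all hx hx1 hax hw]; exact inv_mem hw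
    · intro hw
      have h1 : a⁻¹ = a := by
        obtain ⟨g, rfl⟩ := isConj_iff.1 ha
        have : z * z = 1 := by rw [← sq, ← hz, pow_orderOf_eq_one]
        refine inv_eq_of_mul_eq_one_right ?_
        calc g * z * g⁻¹ * (g * z * g⁻¹) = g * (z * z) * g⁻¹ := by group
          _ = 1 := by rw [this]; group
      have h3 := inverts_all hx hx1 hax (show a * w * a⁻¹ ∈ (D.P : Subgroup G) from hw)
      rw [h1] at h3
      have : w = (a * w * a)⁻¹ := by
        rw [← h3]
        calc w = (a⁻¹ * a) * w * (a * a⁻¹) := by group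
          _ = a * (a * w * a) * a := by rw [h1]; group
      rw [this]
      rw [h1] at hw
      exact inv_mem hw
  haveI : (Cent D).subgroupOf (normalizer (D.P : Set G)) |>.Normal :=
    normal_subgroupOf_centralizer_normalizer _
  set q := QuotientGroup.mk' ((Cent D).subgroupOf (normalizer (D.P : Set G))) ⟨a, hN⟩ with hq
  have hq2 : orderOf q = 2 := by
    haveI : Fact (Nat.Prime 2) := ⟨Nat.prime_two⟩
    refine orderOf_eq_prime ?_ fun hq1 => notMem_cent_of_inverts hx hx1 h2 hax ?_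
    · rw [hq, ← map_pow, QuotientGroup.mk'_apply, QuotientGroup.eq_one_iff, mem_subgroupOf]
      obtain ⟨g, rfl⟩ := isConj_iff.1 ha
      have : (g * z * g⁻¹) ^ 2 = 1 := by
        rw [conj_pow, ← hz, pow_orderOf_eq_one]; group
      show (g * z * g⁻¹) ^ 2 ∈ Cent D
      rw [this]; exact one_mem _
    · rw [hq, QuotientGroup.mk'_apply, QuotientGroup.eq_one_iff, mem_subgroupOf] at hq1
      exact hq1
  have h := orderOf_dvd_natCard q
  rw [hq2, ← Subgroup.index_eq_card] at h
  exact Nat.not_even_iff_odd.2 he (even_iff_two_dvd.2 h)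

/-- T2: with a self-centralising Sylow subgroup the number is `0` or `p`. -/
theorem nInv_cases (hC : Cent D = (D.P : Subgroup G)) (hx : x ∈ (D.P : Subgroup G)) (hx1 : x ≠ 1)
    (h2 : p ≠ 2) {z : G} (hz : orderOf z = 2) : nInv z x = 0 ∨ nInv z x = p := by
  rcases isEmpty_or_nonempty {a : G // Inverts z x a} with h | ⟨⟨a₀, ha₀⟩⟩
  · exact Or.inl Nat.card_of_isEmpty
  have hle : nInv z x ≤ p := by
    rw [nInv, show p = Nat.card (D.P : Subgroup G) from D.card_P.symm]
    refine Nat.card_le_card_of_injective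
      (fun a => (⟨a.1 * a₀, hC ▸ mul_mem_cent hx hx1 a.2.2 ha₀.2⟩ : (D.P : Subgroup G)))
      fun a b hab => Subtype.ext (mul_right_cancel (congrArg Subtype.val hab))
  obtain ⟨k, hk⟩ := dvd_nInv hx hx1 h2 hz
  have hpos : 0 < nInv z x := Nat.card_pos_iff.2 ⟨⟨⟨a₀, ha₀⟩⟩, inferInstance⟩
  right
  rcases Nat.lt_or_ge k 2 with h | h
  · interval_cases k <;> omega
  · have := Nat.mul_le_mul_left p h; have := hp.out.pos; omega

/-- T2: exactly one class of involutions inverts a self-centralising Sylow subgroup when `e` is even. -/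
theorem exists_inverting (hC : Cent D = (D.P : Subgroup G)) (hx : x ∈ (D.P : Subgroup G)) (hx1 : x ≠ 1)
    (h2 : p ≠ 2) (he : Even D.e) :
    ∃ z₀ : G, orderOf z₀ = 2 ∧ nInv z₀ x = p ∧
      ∀ z : G, orderOf z = 2 → nInv z x ≠ 0 → IsConj z₀ z := by
  haveI : Fact (Nat.Prime 2) := ⟨Nat.prime_two⟩
  haveI : (Cent D).subgroupOf (normalizer (D.P : Set G)) |>.Normal :=
    normal_subgroupOf_centralizer_normalizer _
  obtain ⟨q, hq⟩ := exists_prime_orderOf_dvd_card'
    (G := ↥(normalizer (D.P : Set G)) ⧸ (Cent D).subgroupOf (normalizer (D.P : Set G))) 2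
    (by rw [← Subgroup.index_eq_card]; exact even_iff_two_dvd.1 he)
  obtain ⟨⟨n, hn⟩, rfl⟩ := QuotientGroup.mk'_surjective _ q
  have hnC : n ∉ Cent D := fun hc => by
    rw [QuotientGroup.mk'_apply, (QuotientGroup.eq_one_iff _).2 (mem_subgroupOf.2 hc), orderOf_one] at hq
    norm_num at hq
  have hn2 : n ^ 2 ∈ Cent D := by
    have h := pow_orderOf_eq_one (QuotientGroup.mk' ((Cent D).subgroupOf (normalizer (D.P : Set G))) ⟨n, hn⟩)
    rw [hq, ← map_pow, QuotientGroup.mk'_apply, QuotientGroup.eq_one_iff] at h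
    exact mem_subgroupOf.1 h
  -- `n` inverts `x`
  have hle : zpowers x = (D.P : Subgroup G) := eq_of_le_of_card_ge (zpowers_le.2 hx) (by
    rw [Nat.card_zpowers, orderOf_mem D hx hx1, show Nat.card (D.P : Subgroup G) = p from D.card_P])
  have hy : n * x * n⁻¹ ∈ (D.P : Subgroup G) := (mem_normalizer_iff.1 hn x).1 hx
  rw [← hle] at hy
  obtain ⟨i, hi⟩ := hy
  simp only at hi
  have hii : x ^ (i * i) = x := by
    rw [zpow_mul, hi, conj_zpow, hi]
    calc n * (n * x * n⁻¹) * n⁻¹ = n ^ 2 * x * (n ^ 2)⁻¹ := by rw [sq]; group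
      _ = x := by rw [← (commute_mem D hx hn2).eq, mul_inv_cancel_right]
  have hdvd : (p : ℤ) ∣ (i - 1) * (i + 1) := by
    have h := (orderOf_dvd_sub_iff_zpow_eq_zpow (x := x) (a := i * i) (b := 1)).2 (by rw [hii, zpow_one])
    rw [orderOf_mem D hx hx1] at h
    rw [show (i - 1) * (i + 1) = i * i - 1 by ring]
    exact h
  have hinv : n * x * n⁻¹ = x⁻¹ := by
    rcases (Nat.prime_iff_prime_int.1 hp.out).dvd_or_dvd hdvd with h | h
    · refine absurd ?_ hnC
      have hxi : x ^ i = x := by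
        conv_rhs => rw [← zpow_one x]
        exact orderOf_dvd_sub_iff_zpow_eq_zpow.1 (by rw [orderOf_mem D hx hx1]; exact h)
      rw [← centralizer_mem D hx hx1, mem_centralizer_singleton_iff]
      rw [hxi, eq_mul_inv_iff_mul_eq] at hi
      exact hi.symm
    · rw [← hi, ← zpow_neg_one]
      exact orderOf_dvd_sub_iff_zpow_eq_zpow.1 (by rw [orderOf_mem D hx hx1, sub_neg_eq_add]; exact h)
  have hn2p : (n ^ p) ^ 2 = 1 := by
    rw [← pow_mul, mul_comm, pow_mul]
    have h := pow_card_eq_one' (G := (D.P : Subgroup G)) (x := ⟨n ^ 2, hC ▸ hn2⟩)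
    rw [show Nat.card (D.P : Subgroup G) = p from D.card_P] at h
    exact congrArg Subtype.val h
  obtain ⟨m, hm⟩ := hp.out.odd_of_ne_two h2
  have hinvp : n ^ p * x * (n ^ p)⁻¹ = x⁻¹ := by
    have hcm : Commute x ((n ^ 2) ^ m) := (commute_mem D hx hn2).pow_right m
    rw [hm, pow_add, pow_mul, pow_one]
    calc (n ^ 2) ^ m * n * x * ((n ^ 2) ^ m * n)⁻¹ = (n ^ 2) ^ m * (n * x * n⁻¹) * ((n ^ 2) ^ m)⁻¹ := by group
      _ = x⁻¹ := by rw [hinv, ← hcm.inv_left.eq, mul_inv_cancel_right]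
  have hne : n ^ p ≠ 1 := fun h => by
    rw [h, one_mul, inv_one, mul_one] at hinvp
    exact notMem_cent_of_inverts hx hx1 h2 (a := 1) (by rw [one_mul, inv_one, mul_one]; exact hinvp)
      (one_mem _)
  have hz₀ : orderOf (n ^ p) = 2 := orderOf_eq_prime hn2p hne
  refine ⟨n ^ p, hz₀, ?_, ?_⟩
  · refine (nInv_cases hC hx hx1 h2 hz₀).resolve_left fun h => ?_
    exact (Nat.card_ne_zero.2 ⟨⟨⟨n ^ p, IsConj.refl _, hinvp⟩⟩, inferInstance⟩) h
  · intro z hz hzne
    obtain ⟨⟨⟨a, ha, hax⟩⟩, -⟩ := Nat.card_ne_zero.1 hzne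
    have hP : a * n ^ p ∈ (D.P : Subgroup G) := hC ▸ mul_mem_cent hx hx1 hax hinvp
    set w := (a * n ^ p) ^ ((p + 1) / 2) with hw
    have hww : w * w = a * n ^ p := by
      rw [hw, ← pow_add, ← two_mul, pow_mul, sq]
      exact p_odd hx hx1 h2 hP
    have hnn : n ^ p * n ^ p = 1 := by rw [← sq]; exact hn2p
    refine (isConj_iff.2 ⟨w, ?_⟩ : IsConj (n ^ p) a).trans ha.symm
    rw [conj_eq_sq_mul hx hx1 hinvp (pow_mem hP _), hww, mul_assoc, hnn, mul_one]

/-- T3: the square sum at `x` outside the principal block. -/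
theorem sum_outside_le (hx : x ∈ (D.P : Subgroup G)) (hx1 : x ≠ 1) {S : Finset (IrrCharacter G)}
    (hS : ∀ χ ∈ S, χ ∉ D.X ∧ χ ∉ D.Y) :
    (∑ χ ∈ S, Complex.normSq ((χ : G → ℂ) x)) + p ≤ (p * coSize D : ℕ) := by
  have hk := sum_sq_principal D.hM ⟨1, by rw [orderOf_mem D hx hx1, pow_one]⟩ (pNil D hx hx1)
  have hcard : Nat.card ↥(centralizer ({x} : Set G)) = Nat.card ↥(Cent D) := by
    rw [centralizer_mem D hx hx1]
  have hset : (principalBlock D.M G : Set (IrrCharacter G)) = ↑(D.X ∪ D.Y) := by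
    ext χ; simp [D.mem_iff]
  rw [blockKernel, hset, finsum_mem_coe_finset, hcard, factorization_cent D, pow_one] at hk
  have htot := second_orthogonality_self (G := G) x
  rw [hcard, card_cent D] at htot
  simp only [Complex.mul_conj] at hk htot
  have hk' : ∑ χ ∈ D.X ∪ D.Y, Complex.normSq ((χ : G → ℂ) x) = (p : ℝ) := by exact_mod_cast hk
  have htot' : ∑ χ : IrrCharacter G, Complex.normSq ((χ : G → ℂ) x) = ((p * coSize D : ℕ) : ℝ) := by
    exact_mod_cast htot
  rw [← htot', ← hk', ← Finset.sum_union (Finset.disjoint_left.2 fun χ h h' => by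
    rcases Finset.mem_union.1 h' with h' | h'
    · exact (hS χ h).1 h'
    · exact (hS χ h).2 h')]
  exact Finset.sum_le_sum_of_subset_of_nonneg (Finset.subset_univ _) fun χ _ _ => Complex.normSq_nonneg _

/-- T3: the bound for integral values. -/
theorem sum_outside_sq_le (hx : x ∈ (D.P : Subgroup G)) (hx1 : x ≠ 1) {S : Finset (IrrCharacter G)}
    (hS : ∀ χ ∈ S, χ ∉ D.X ∧ χ ∉ D.Y) {w : IrrCharacter G → ℤ}
    (hw : ∀ χ ∈ S, (χ : G → ℂ) x = w χ) :
    ∑ χ ∈ S, w χ ^ 2 + (p : ℤ) ≤ (p : ℤ) * coSize D := by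
  have h := sum_outside_le hx hx1 hS
  have e : ∑ χ ∈ S, Complex.normSq ((χ : G → ℂ) x) = ((∑ χ ∈ S, w χ ^ 2 : ℤ) : ℝ) := by
    push_cast
    refine Finset.sum_congr rfl fun χ hχ => ?_
    rw [hw χ hχ, Complex.normSq_intCast, sq]
  rw [e] at h
  have h' : (((∑ χ ∈ S, w χ ^ 2 + (p : ℤ)) : ℤ) : ℝ) ≤ (((p : ℤ) * coSize D : ℤ) : ℝ) := by
    push_cast at h ⊢; exact h
  exact Int.cast_le.1 h'

/-- T3: with `e = p - 1` the values on `P` are rational integers congruent to the degree. -/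
theorem exists_int_of_fused (hx : x ∈ (D.P : Subgroup G)) (hx1 : x ≠ 1) (he : D.e = p - 1)
    (χ : IrrCharacter G) :
    ∃ w : ℤ, (χ : G → ℂ) x = w ∧ w ≡ (charDegree (χ : G → ℂ) : ℤ) [ZMOD p] := by
  haveI := Abelian.isMulCommutative_sylow D.P D.card_P
  obtain ⟨k, hk⟩ := Abelian.exists_int_sum_apply D.P D.card_P χ
  have hP : Nat.card (D.P : Subgroup G) = p := D.card_P
  -- all non-identity elements of `P` are conjugate
  have hall : ∀ u : (D.P : Subgroup G), u ≠ 1 → IsConj x (u : G) := by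
    let O : Set G := {u | u ∈ (D.P : Subgroup G) ∧ ∃ n ∈ normalizer (D.P : Set G), n * x * n⁻¹ = u}
    let f : ↥(normalizer (D.P : Set G)) ⧸ (Cent D).subgroupOf (normalizer (D.P : Set G)) →
        {u : (D.P : Subgroup G) // u ≠ 1 ∧ IsConj x (u : G)} :=
      Quotient.lift (fun n => ⟨⟨n * x * (n : G)⁻¹, (mem_normalizer_iff.1 n.2 x).1 hx⟩,
        fun h => hx1 (conj_eq_one_iff.1 (congrArg Subtype.val h)), isConj_iff.2 ⟨n, rfl⟩⟩)
        (fun a b hab => Subtype.ext (Subtype.ext (by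
          have h := QuotientGroup.leftRel_apply.1 hab
          rw [mem_subgroupOf] at h
          have hc := (commute_mem D hx h).eq
          show (a : G) * x * (a : G)⁻¹ = (b : G) * x * (b : G)⁻¹
          simp only [Subgroup.coe_mul, Subgroup.coe_inv] at hc
          calc (a : G) * x * (a : G)⁻¹ = (a : G) * (x * ((a : G)⁻¹ * b)) * (b : G)⁻¹ := by group
            _ = (b : G) * x * (b : G)⁻¹ := by rw [hc]; group)))
    have hinj : Function.Injective f := by
      intro a b hab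
      induction a using QuotientGroup.induction_on with
      | H a =>
        induction b using QuotientGroup.induction_on with
        | H b =>
          rw [QuotientGroup.eq, mem_subgroupOf, ← centralizer_mem D hx hx1, mem_centralizer_singleton_iff]
          have h : (a : G) * x * (a : G)⁻¹ = (b : G) * x * (b : G)⁻¹ :=
            congrArg (fun r : {u : (D.P : Subgroup G) // u ≠ 1 ∧ IsConj x (u : G)} => ((r.1 : G))) hab
          simp only [Subgroup.coe_mul, Subgroup.coe_inv]
          calc (a : G)⁻¹ * b * x = (a : G)⁻¹ * ((b : G) * x * (b : G)⁻¹) * b := by group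
            _ = x * ((a : G)⁻¹ * b) := by rw [← h]; group
    have h1 := Nat.card_le_card_of_injective f hinj
    rw [← Subgroup.index_eq_card, show ((Cent D).subgroupOf (normalizer (D.P : Set G))).index = p - 1 from he] at h1
    intro u hu
    by_contra hnot
    have h2 : Nat.card {u : (D.P : Subgroup G) // u ≠ 1 ∧ IsConj x (u : G)} + 2 ≤ p := by
      rw [Nat.card_eq_fintype_card, Fintype.card_subtype]
      have hsub : (Finset.univ.filter fun v : (D.P : Subgroup G) => v ≠ 1 ∧ IsConj x (v : G)) ⊆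
          (Finset.univ.erase 1).erase u := fun v hv => by
        rw [Finset.mem_filter] at hv
        exact Finset.mem_erase.2 ⟨fun e => hnot (e ▸ hv.2.2), Finset.mem_erase.2 ⟨hv.2.1, Finset.mem_univ _⟩⟩
      have h3 := Finset.card_le_card hsub
      rw [Finset.card_erase_of_mem (Finset.mem_erase.2 ⟨hu, Finset.mem_univ _⟩),
        Finset.card_erase_of_mem (Finset.mem_univ _), Finset.card_univ, ← Nat.card_eq_fintype_card, hP] at h3
      have := hp.out.two_le
      omega
    omega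
  rw [← Finset.add_sum_erase _ _ (Finset.mem_univ (1 : (D.P : Subgroup G))), Subgroup.coe_one,
    apply_one_eq_charDegree, Finset.sum_congr rfl (g := fun _ => (χ : G → ℂ) x) (fun u hu => by
      obtain ⟨g, hg⟩ := isConj_iff.1 (hall u (Finset.ne_of_mem_erase hu))
      rw [← hg, IsIrr.isClassFunction χ.2 x g]), Finset.sum_const,
    Finset.card_erase_of_mem (Finset.mem_univ _), Finset.card_univ, ← Nat.card_eq_fintype_card, hP,
    nsmul_eq_mul] at hk
  have hp1 : ((p - 1 : ℕ) : ℤ) ≠ 0 := by have := hp.out.two_le; omega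
  obtain ⟨w, hw⟩ := H83.int_dvd_of_isIntegral (IsChar.isIntegral (IsIrr.isCharacter χ.2) x)
    (n := ((p - 1 : ℕ) : ℤ)) (m := (p : ℤ) * k - charDegree (χ : G → ℂ)) hp1 (by
      push_cast; linear_combination hk)
  have hval : (χ : G → ℂ) x = w := by
    have hw' := congrArg (fun r : ℤ => (r : ℂ)) hw
    push_cast at hw'
    refine mul_left_cancel₀ (by exact_mod_cast hp1 : ((p - 1 : ℕ) : ℂ) ≠ 0) ?_
    linear_combination hk + hw'
  refine ⟨w, hval, ?_⟩
  rw [Nat.cast_sub hp.out.one_le, Nat.cast_one] at hw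
  exact Int.modEq_iff_dvd.2 ⟨k - w, by linear_combination -hw⟩

/-- T4: outside the block of a self-centralising Sylow subgroup the degree is divisible by `p`. -/
theorem dvd_degree (hC : Cent D = (D.P : Subgroup G)) {χ : IrrCharacter G} (h1 : χ ∉ D.X)
    (h2 : χ ∉ D.Y) : p ∣ charDegree (χ : G → ℂ) := by
  obtain ⟨k, hk⟩ := Abelian.exists_int_sum_apply D.P D.card_P χ
  rw [← Finset.add_sum_erase _ _ (Finset.mem_univ (1 : (D.P : Subgroup G))), Subgroup.coe_one,
    apply_one_eq_charDegree, Finset.sum_eq_zero (fun u hu => D.vanish hC h1 h2 u.2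
      fun e => Finset.ne_of_mem_erase hu (Subtype.ext e)), add_zero] at hk
  have hk' : (charDegree (χ : G → ℂ) : ℤ) = (p : ℤ) * k := by exact_mod_cast hk
  exact Int.natCast_dvd_natCast.1 ⟨k, hk'⟩

/-- T4: such a character vanishes on every `p`-singular element. -/
theorem vanish_singular (hC : Cent D = (D.P : Subgroup G)) {χ : IrrCharacter G} (h1 : χ ∉ D.X)
    (h2 : χ ∉ D.Y) {g : G} (hg : p ∣ orderOf g) : (χ : G → ℂ) g = 0 :=
  eq_zero_of_dvd D (dvd_degree hC h1 h2) hg

end Cfsg.Agent.H86.MTwentyTwo
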