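import Cfsg.Agent.H86.SmallExcBlocks
import Cfsg.Agent.H83.ClassConst
import Cfsg.Agent.H35.Consequences
import Cfsg.Agent.H26.DefectZero

/-!
Tools for a Sylow subgroup of prime order `p`: congruences at elements centralising it, the square rule
for involutions inverting it, and consequences of a self-centralising or fully fused Sylow subgroup.
-/

set_option linter.unusedSectionVars false
set_option linter.style.haveILetI false

open scoped ComplexConjugate Classical

namespace Cfsg.Agent.H86.MTwentyTwo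

open CharBasic Subgroup BlockBasic

universe u

variable {G : Type u} [Group G] [Fintype G] {p : ℕ} [hp : Fact p.Prime]

/-- The conjugates of `z` inverting `x`. -/
def Inverts (z x a : G) : Prop := IsConj z a ∧ a * x * a⁻¹ = x⁻¹

/-- Their number. -/
noncomputable def nInv (z x : G) : ℕ := Nat.card {a : G // Inverts z x a}

omit [Fintype G] in
theorem nInv_eq_of_isConj {z z' : G} (h : IsConj z z') (x : G) : nInv z x = nInv z' x :=
  Nat.card_congr (Equiv.subtypeEquivRight fun _ =>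
    ⟨fun ha => ⟨h.symm.trans ha.1, ha.2⟩, fun ha => ⟨h.trans ha.1, ha.2⟩⟩)

variable (D : SmallExc.PBlk G p)
include D

/-- The centraliser of the Sylow subgroup. -/
abbrev Cent : Subgroup G := centralizer ((D.P : Subgroup G) : Set G)

/-- The order of its `p'`-part. -/
noncomputable def coSize : ℕ := Nat.card (Cent D) / p

theorem le_cent : (D.P : Subgroup G) ≤ Cent D := by
  haveI := Abelian.isMulCommutative_sylow D.P D.card_P
  exact fun a ha => mem_centralizer_iff.2 fun b hb =>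
    congrArg Subtype.val (mul_comm' (⟨b, hb⟩ : (D.P : Subgroup G)) ⟨a, ha⟩)

theorem card_cent : Nat.card (Cent D) = p * coSize D := by
  rw [coSize, Nat.mul_div_cancel']
  have h := card_dvd_of_le (le_cent D)
  rwa [show Nat.card (D.P : Subgroup G) = p from D.card_P] at h

theorem factorization_card : (Nat.card G).factorization p = 1 := by
  have h := D.P.card_eq_multiplicity
  rw [show Nat.card D.P = p from D.card_P] at h
  exact (Nat.pow_right_injective hp.out.two_le ((pow_one p).trans h)).symm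

theorem factorization_cent : (Nat.card (Cent D)).factorization p = 1 := by
  refine le_antisymm ?_ ((hp.out.dvd_iff_one_le_factorization Nat.card_pos.ne').1 ?_)
  · rw [← factorization_card D]
    exact (Nat.factorization_le_iff_dvd Nat.card_pos.ne' Nat.card_pos.ne').2
      (card_subgroup_dvd_card _) p
  · rw [card_cent D]; exact dvd_mul_right p _

theorem orderOf_mem {x : G} (hx : x ∈ (D.P : Subgroup G)) (hx1 : x ≠ 1) : orderOf x = p := by
  have h := orderOf_dvd_natCard (G := (D.P : Subgroup G)) ⟨x, hx⟩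
  rw [orderOf_mk, show Nat.card (D.P : Subgroup G) = p from D.card_P] at h
  exact ((Nat.dvd_prime hp.out).1 h).resolve_left fun e => hx1 (orderOf_eq_one_iff.1 e)

theorem centralizer_mem {x : G} (hx : x ∈ (D.P : Subgroup G)) (hx1 : x ≠ 1) :
    centralizer ({x} : Set G) = Cent D :=
  FewSylowReduce.centralizer_singleton_of_mem D.P D.card_P hx hx1

theorem commute_mem {x c : G} (hx : x ∈ (D.P : Subgroup G)) (hc : c ∈ Cent D) : Commute x c :=
  mem_centralizer_iff.1 hc x hx

theorem pNil {x : G} (hx : x ∈ (D.P : Subgroup G)) (hx1 : x ≠ 1) : PNilAt p x := by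
  haveI := Abelian.isMulCommutative_sylow D.P D.card_P
  exact Abelian.pNilAt_of_mem D.P (Abelian.freeFusion D.P D.card_P) hx hx1

theorem reg_one : ¬ p ∣ orderOf (1 : G) := by
  rw [orderOf_one, Nat.dvd_one]; exact hp.out.ne_one

/-- A `p`-element centralising `P` lies in `P`. -/
theorem mem_of_pelement {u : G} (hu : u ∈ Cent D) (ho : ∃ k, orderOf u = p ^ k) :
    u ∈ (D.P : Subgroup G) := by
  obtain ⟨k, hk⟩ := ho
  have hpg : IsPGroup p (zpowers u) := IsPGroup.of_card (n := k) (by rw [Nat.card_zpowers, hk])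
  exact (le_of_eq (hpg.inf_normalizer_sylow D.P) ⟨mem_zpowers u, centralizer_le_normalizer _ hu⟩).2

/-! ### Congruences at elements of the centraliser -/

theorem congr_value {χ : IrrCharacter G} {z : G} (hz : z ∈ Cent D) (hz' : ¬ p ∣ orderOf z)
    {u : G} (hu : u ∈ (D.P : Subgroup G)) :
    MemLocalIdeal D.M ((χ : G → ℂ) (u * z) - (χ : G → ℂ) z) := by
  refine H35.char_mul_congr D.hM (IsIrr.isCharacter χ.2) (commute_mem D hu hz) ?_ hz'
  by_cases h : u = 1
  · exact ⟨0, by rw [h, orderOf_one, pow_zero]⟩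
  · exact ⟨1, by rw [orderOf_mem D hu h, pow_one]⟩

/-- T1: the non-exceptional characters. -/
theorem val_X_modEq {χ : IrrCharacter G} (hχ : χ ∈ D.X) {z : G} (hz : z ∈ Cent D)
    (hz' : ¬ p ∣ orderOf z) {v : ℤ} (hv : (χ : G → ℂ) z = v) : v ≡ D.εX χ [ZMOD p] := by
  obtain ⟨x, hx, hx1⟩ := D.exists_ne_one
  have h := congr_value D (χ := χ) hz hz' hx
  rw [D.valX χ hχ x hx hx1 z hz hz', hv, ← Int.cast_sub, memLocalIdeal_intCast_iff D.hM] at h
  exact Int.modEq_iff_dvd.2 h

/-- T1: the exceptional characters. -/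
theorem val_Y_modEq {θ : IrrCharacter G} (hθ : θ ∈ D.Y) {z : G} (hz : z ∈ Cent D)
    (hz' : ¬ p ∣ orderOf z) {v : ℤ} (hv : (θ : G → ℂ) z = v) : v ≡ D.ε * (D.e : ℤ) [ZMOD p] := by
  haveI := Abelian.isMulCommutative_sylow D.P D.card_P
  have hP : Nat.card (D.P : Subgroup G) = p := D.card_P
  have h0 := D.sumY θ hθ
  rw [← Finset.add_sum_erase _ _ (Finset.mem_univ (1 : (D.P : Subgroup G))), Subgroup.coe_one] at h0
  have hsum : ∑ u ∈ (Finset.univ : Finset (D.P : Subgroup G)).erase 1,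
      ((θ : G → ℂ) ((u : G) * z) - (v : ℂ)) = ((-(D.ε * (D.e : ℤ)) - ((p - 1 : ℕ) : ℤ) * v : ℤ) : ℂ) := by
    rw [Finset.sum_sub_distrib, Finset.sum_congr rfl (g := fun u : (D.P : Subgroup G) => (θ : G → ℂ) u)
      (fun u hu => Abelian.apply_mul_eq D.P D.card_P D.hM ((D.mem_iff θ).2 (Or.inr hθ)) u.2
        (fun e => Finset.ne_of_mem_erase hu (Subtype.ext e)) hz hz'), Finset.sum_const,
      Finset.card_erase_of_mem (Finset.mem_univ _), Finset.card_univ, ← Nat.card_eq_fintype_card, hP,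
      nsmul_eq_mul]
    push_cast
    linear_combination h0
  have h : MemLocalIdeal D.M (((-(D.ε * (D.e : ℤ)) - ((p - 1 : ℕ) : ℤ) * v : ℤ)) : ℂ) := by
    rw [← hsum]
    exact memLocalIdeal_sum D.hM _ _ fun u _ => hv ▸ congr_value D hz hz' u.2
  rw [memLocalIdeal_intCast_iff D.hM, Nat.cast_sub hp.out.one_le, Nat.cast_one] at h
  refine Int.modEq_iff_dvd.2 ?_
  obtain ⟨k, hk⟩ := h
  exact ⟨-k - v, by linear_combination -hk⟩

/-- T4: outside the block, characters of degree divisible by `p` vanish on singular elements. -/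
theorem eq_zero_of_dvd {χ : IrrCharacter G} (hd : p ∣ charDegree (χ : G → ℂ)) {g : G}
    (hg : p ∣ orderOf g) : (χ : G → ℂ) g = 0 := by
  obtain ⟨n, ρ, hρ, he⟩ := χ.2
  haveI := hρ
  have hn : charDegree (χ : G → ℂ) = n := by
    have h := apply_one_eq_charDegree χ
    rw [← he, Representation.char_one] at h
    simp only [Module.finrank_fintype_fun_eq_card, Fintype.card_fin] at h
    rw [← he]
    exact_mod_cast h.symm
  have h1 : p ^ 1 ∣ Nat.card G :=
    (hp.out.pow_dvd_iff_le_factorization Nat.card_pos.ne').2 (factorization_card D).ge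
  have h2 : ¬ p ^ (1 + 1) ∣ Nat.card G := fun h => by
    have := (hp.out.pow_dvd_iff_le_factorization Nat.card_pos.ne').1 h
    rw [factorization_card D] at this
    omega
  have := H26.defect_zero_vanish ρ hp.out h1 h2 (by
    rw [pow_one, Module.finrank_fintype_fun_eq_card, Fintype.card_fin, ← hn]; exact hd) hg
  rwa [← he]

/-- T1: the characters of defect zero. -/
theorem val_defect_modEq {χ : IrrCharacter G} (hd : p ∣ charDegree (χ : G → ℂ)) {z : G}
    (hz : z ∈ Cent D) (hz' : ¬ p ∣ orderOf z) {v : ℤ} (hv : (χ : G → ℂ) z = v) :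
    v ≡ 0 [ZMOD p] := by
  obtain ⟨x, hx, hx1⟩ := D.exists_ne_one
  have hsing : p ∣ orderOf (x * z) := by
    rw [(commute_mem D hx hz).orderOf_mul_eq_mul_orderOf_of_coprime
      (by rw [orderOf_mem D hx hx1]; exact hp.out.coprime_iff_not_dvd.2 hz'), orderOf_mem D hx hx1]
    exact dvd_mul_right _ _
  have h := congr_value D (χ := χ) hz hz' hx
  rw [eq_zero_of_dvd D hd hsing, hv, zero_sub, ← Int.cast_neg, memLocalIdeal_intCast_iff D.hM,
    Int.dvd_neg] at h
  exact Int.modEq_zero_iff_dvd.2 h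

/-- T1: the sign equation at a regular element. -/
theorem sign_eq {z : G} (hz : ¬ p ∣ orderOf z) {v : IrrCharacter G → ℤ}
    (hv : ∀ χ, χ ∈ D.X ∨ χ ∈ D.Y → (χ : G → ℂ) z = v χ) {θ : IrrCharacter G} (hθ : θ ∈ D.Y) :
    D.ε * v θ = ∑ χ ∈ D.X, D.εX χ * v χ := by
  have h := D.rel θ hθ z hz
  rw [hv θ (Or.inr hθ), Finset.sum_congr rfl (g := fun χ => ((D.εX χ * v χ : ℤ) : ℂ))
    fun χ hχ => by rw [hv χ (Or.inl hχ), Int.cast_mul]] at h
  exact_mod_cast h

/-- The exceptional characters sum to `-ε` at non-identity elements of `P`. -/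
theorem sum_Y_singular {x : G} (hx : x ∈ (D.P : Subgroup G)) (hx1 : x ≠ 1) :
    ∑ θ ∈ D.Y, (θ : G → ℂ) x = -(D.ε : ℂ) := by
  obtain ⟨θ₀, hθ₀⟩ := D.Y_nonempty
  have hox : p ∣ orderOf x := (orderOf_mem D hx hx1).symm.dvd
  have h := blockKernel_eq_zero_of_regular_of_singular D.hM (isPBlock_principalBlock (G := G) D.M)
    (reg_one D) hox
  have hset : (principalBlock D.M G : Set (IrrCharacter G)) = ↑(D.X ∪ D.Y) := by
    ext χ; simp [D.mem_iff]
  rw [blockKernel, hset, finsum_mem_coe_finset, Finset.sum_union D.disj] at h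
  rw [Finset.sum_congr rfl (g := fun χ => ((D.εX χ * charDegree (χ : G → ℂ) : ℤ) : ℂ)) (fun χ hχ => by
      rw [D.val_P hχ hx hx1, apply_one_eq_charDegree, map_intCast]; push_cast; ring),
    ← Int.cast_sum, ← D.rel_one hθ₀,
    Finset.sum_congr rfl (g := fun θ : IrrCharacter G => (charDegree (θ₀ : G → ℂ) : ℂ) * conj ((θ : G → ℂ) x))
      (fun θ hθ => by rw [apply_one_eq_charDegree, D.degree_Y hθ hθ₀]), ← Finset.mul_sum, ← map_sum] at h
  push_cast at h
  have hd : (charDegree (θ₀ : G → ℂ) : ℂ) ≠ 0 := Nat.cast_ne_zero.2 (charDegree_pos θ₀).ne'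
  have h2 : (charDegree (θ₀ : G → ℂ) : ℂ) * (conj (∑ θ ∈ D.Y, (θ : G → ℂ) x) + (D.ε : ℂ)) = 0 := by
    linear_combination h
  have h3 := congrArg conj ((mul_eq_zero.1 h2).resolve_left hd)
  simp only [map_add, Complex.conj_conj, map_intCast, map_zero] at h3
  linear_combination h3

/-! ### The square rule -/

section Square

variable {D} {x : G}

theorem inverts_all (hx : x ∈ (D.P : Subgroup G)) (hx1 : x ≠ 1) {a : G} (ha : a * x * a⁻¹ = x⁻¹)
    {w : G} (hw : w ∈ (D.P : Subgroup G)) : a * w * a⁻¹ = w⁻¹ := by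
  have hle : zpowers x = (D.P : Subgroup G) := eq_of_le_of_card_ge (zpowers_le.2 hx) (by
    rw [Nat.card_zpowers, orderOf_mem D hx hx1, show Nat.card (D.P : Subgroup G) = p from D.card_P])
  rw [← hle] at hw
  obtain ⟨i, rfl⟩ := hw
  rw [← conj_zpow, ha, inv_zpow]

theorem conj_eq_sq_mul (hx : x ∈ (D.P : Subgroup G)) (hx1 : x ≠ 1) {a : G} (ha : a * x * a⁻¹ = x⁻¹)
    {w : G} (hw : w ∈ (D.P : Subgroup G)) : w * a * w⁻¹ = w * w * a := by
  have h := inverts_all hx hx1 ha (inv_mem hw)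
  rw [inv_inv] at h
  calc w * a * w⁻¹ = w * (a * w⁻¹ * a⁻¹) * a := by group
    _ = w * w * a := by rw [h]

theorem mul_mem_cent (hx : x ∈ (D.P : Subgroup G)) (hx1 : x ≠ 1) {a b : G}
    (ha : a * x * a⁻¹ = x⁻¹) (hb : b * x * b⁻¹ = x⁻¹) : a * b ∈ Cent D := by
  rw [← centralizer_mem D hx hx1, mem_centralizer_singleton_iff]
  have h : a * b * x * (a * b)⁻¹ = x := by
    calc a * b * x * (a * b)⁻¹ = a * (b * x * b⁻¹) * a⁻¹ := by group
      _ = (a * x * a⁻¹)⁻¹ := by rw [hb]; group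
      _ = x := by rw [ha, inv_inv]
  exact mul_inv_eq_iff_eq_mul.1 h

variable (D) in
/-- The pairs of conjugates of `z` whose product lies in the section of `x`. -/
def SecPair (z x : G) (q : G × G) : Prop :=
  IsConj z q.1 ∧ IsConj z q.2 ∧ ∃ c ∈ Cent D, ¬ p ∣ orderOf c ∧ q.1 * q.2 = x * c

theorem secPair_inverts (hx : x ∈ (D.P : Subgroup G)) (hx1 : x ≠ 1) {z : G} (hz : orderOf z = 2)
    {q : G × G} (h : SecPair D z x q) : Inverts z x q.1 ∧ Inverts z x q.2 := by
  obtain ⟨ha, hb, c, hc, hc', he⟩ := h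
  have hinv : ∀ {a : G}, IsConj z a → a⁻¹ = a := fun {a} hh => by
    obtain ⟨g, rfl⟩ := isConj_iff.1 hh
    have : z * z = 1 := by rw [← sq, ← hz, pow_orderOf_eq_one]
    refine inv_eq_of_mul_eq_one_right ?_
    calc g * z * g⁻¹ * (g * z * g⁻¹) = g * (z * z) * g⁻¹ := by group
      _ = 1 := by rw [this]; group
  have hpp : pPart (p := p) (q.1 * q.2) = x := by
    rw [he]
    exact pPart_mul_of (commute_mem D hx hc) ⟨1, by rw [orderOf_mem D hx hx1, pow_one]⟩ hc'
  constructor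
  · refine ⟨ha, ?_⟩
    have h1 : q.1 * (q.1 * q.2) * q.1⁻¹ = (q.1 * q.2)⁻¹ := by
      rw [mul_inv_rev, hinv hb, hinv ha, ← mul_assoc, show q.1 * q.1 = 1 from
        mul_eq_one_iff_eq_inv.2 (hinv ha).symm, one_mul]
    rw [← hpp, ← pPart_conj, h1, pPart_inv]
  · refine ⟨hb, ?_⟩
    have h1 : q.2 * (q.1 * q.2) * q.2⁻¹ = (q.1 * q.2)⁻¹ := by
      rw [mul_inv_rev, hinv hb, hinv ha, mul_assoc, mul_assoc q.1, show q.2 * q.2 = 1 from
        mul_eq_one_iff_eq_inv.2 (hinv hb).symm, mul_one]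
    rw [← hpp, ← pPart_conj, h1, pPart_inv]

theorem p_odd (hx : x ∈ (D.P : Subgroup G)) (hx1 : x ≠ 1) (h2 : p ≠ 2) {w : G}
    (hw : w ∈ (D.P : Subgroup G)) : (w * w) ^ ((p + 1) / 2) = w := by
  obtain ⟨m, hm⟩ := hp.out.odd_of_ne_two h2
  have hwp : w ^ p = 1 := by
    have h := pow_card_eq_one' (G := (D.P : Subgroup G)) (x := ⟨w, hw⟩)
    rw [show Nat.card (D.P : Subgroup G) = p from D.card_P] at h
    exact congrArg Subtype.val h
  rw [← sq, ← pow_mul, show 2 * ((p + 1) / 2) = p + 1 by omega, pow_succ, hwp, one_mul]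

/-- The counting identity behind the square rule. -/
theorem card_secPair (hx : x ∈ (D.P : Subgroup G)) (hx1 : x ≠ 1) (h2 : p ≠ 2) {z : G}
    (hz : orderOf z = 2) : p * Nat.card {q : G × G // SecPair D z x q} = nInv z x ^ 2 := by
  have e : Nat.card (↥(D.P : Subgroup G) × {q : G × G // SecPair D z x q}) =
      p * Nat.card {q : G × G // SecPair D z x q} := by
    rw [Nat.card_prod, show Nat.card (D.P : Subgroup G) = p from D.card_P]
  rw [sq, nInv, ← Nat.card_prod, ← e]
  let f : ↥(D.P : Subgroup G) × {q : G × G // SecPair D z x q} →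
      {a : G // Inverts z x a} × {a : G // Inverts z x a} := fun r =>
    (⟨(r.1 : G) * r.2.1.1 * (r.1 : G)⁻¹, by
      obtain ⟨h1, h3⟩ := (secPair_inverts hx hx1 hz r.2.2).1
      refine ⟨h1.trans (isConj_iff.2 ⟨r.1, rfl⟩), ?_⟩
      have hwx : Commute x (r.1 : G) := commute_mem D hx (le_cent D r.1.2)
      calc (r.1 : G) * r.2.1.1 * (r.1 : G)⁻¹ * x * ((r.1 : G) * r.2.1.1 * (r.1 : G)⁻¹)⁻¹
          = (r.1 : G) * r.2.1.1 * ((r.1 : G)⁻¹ * (x * (r.1 : G))) * r.2.1.1⁻¹ * (r.1 : G)⁻¹ := by group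
        _ = (r.1 : G) * (r.2.1.1 * x * r.2.1.1⁻¹) * (r.1 : G)⁻¹ := by rw [hwx.eq]; group
        _ = x⁻¹ := by rw [h3, ← hwx.inv_left.eq]; group⟩,
    ⟨r.2.1.2, (secPair_inverts hx hx1 hz r.2.2).2⟩)
  refine Nat.card_congr (Equiv.ofBijective f ⟨?_, ?_⟩)
  · rintro ⟨w, ⟨⟨a, b⟩, hq⟩⟩ ⟨w', ⟨⟨a', b'⟩, hq'⟩⟩ h
    have h1 : (w : G) * a * (w : G)⁻¹ = (w' : G) * a' * (w' : G)⁻¹ := congrArg (fun r => r.1.1) h
    have h3 : b = b' := congrArg (fun r => r.2.1) h
    subst h3
    obtain ⟨c, hc, hc', he⟩ := hq.2.2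
    obtain ⟨c', hcc, hcc', he'⟩ := hq'.2.2
    rw [conj_eq_sq_mul hx hx1 (secPair_inverts hx hx1 hz hq).1.2 w.2,
      conj_eq_sq_mul hx hx1 (secPair_inverts hx hx1 hz hq').1.2 w'.2] at h1
    have hpp : ∀ {w : G}, w ∈ (D.P : Subgroup G) → ∀ {c : G}, c ∈ Cent D → ¬ p ∣ orderOf c →
        pPart (p := p) (w * w * x * c) = w * w * x := by
      intro w hw c hc hc'
      refine pPart_mul_of (commute_mem D (mul_mem (mul_mem hw hw) hx) hc) ?_ hc'
      by_cases hh : w * w * x = 1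
      · exact ⟨0, by rw [hh, orderOf_one, pow_zero]⟩
      · exact ⟨1, by rw [orderOf_mem D (mul_mem (mul_mem hw hw) hx) hh, pow_one]⟩
    have h4 : (w : G) * w * x * c = (w' : G) * w' * x * c' := by
      simp only at he he'
      rw [mul_assoc _ x, ← he, mul_assoc _ x, ← he', ← mul_assoc, h1, mul_assoc]
    have h5 := congrArg (pPart (p := p)) h4
    rw [hpp w.2 hc hc', hpp w'.2 hcc hcc', mul_left_inj] at h5
    have h6 : w = w' := Subtype.ext (by rw [← p_odd hx hx1 h2 w.2, h5, p_odd hx hx1 h2 w'.2])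
    subst h6
    have h7 : a = a' := mul_left_cancel h1
    subst h7
    rfl
  · rintro ⟨⟨a, ha⟩, ⟨b, hb⟩⟩
    have hy := mul_mem_cent hx hx1 ha.2 hb.2
    set y := a * b with hy'
    have hu : pPart (p := p) y ∈ Cent D := by
      rw [← centralizer_mem D hx hx1, mem_centralizer_singleton_iff]
      have hyx : x * y * x⁻¹ = y := by
        rw [mul_inv_eq_iff_eq_mul]; exact (commute_mem D hx hy).eq
      have h := pPart_conj (p := p) y x
      rw [hyx] at h
      exact (eq_mul_inv_iff_mul_eq.1 h)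
    have huP := mem_of_pelement D hu (exists_orderOf_pPart y)
    set u := pPart (p := p) y with hu'
    set w := (u * x⁻¹) ^ ((p + 1) / 2) with hw
    have hwP : w ∈ (D.P : Subgroup G) := pow_mem (mul_mem huP (inv_mem hx)) _
    have hww : w * w = u * x⁻¹ := by
      rw [hw, ← pow_add, ← two_mul, pow_mul, sq]
      exact p_odd hx hx1 h2 (mul_mem huP (inv_mem hx))
    have hsq := conj_eq_sq_mul hx hx1 ha.2 (inv_mem hwP)
    rw [inv_inv] at hsq
    refine ⟨(⟨w, hwP⟩, ⟨(w⁻¹ * a * w, b), ha.1.trans (isConj_iff.2 ⟨w⁻¹, by group⟩), hb.1,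
      pReg (p := p) y, ?_, not_dvd_orderOf_pReg y, ?_⟩), ?_⟩
    · have : pReg (p := p) y = u⁻¹ * y := by
        rw [eq_inv_mul_iff_mul_eq]; exact pPart_mul_pReg y
      rw [this]; exact mul_mem (inv_mem hu) hy
    · show w⁻¹ * a * w * b = x * pReg (p := p) y
      have hcomm : Commute x u := commute_mem D hx (le_cent D huP)
      rw [hsq, mul_assoc, ← hy', ← mul_inv_rev, hww, mul_inv_rev, inv_inv]
      conv_lhs => rw [← pPart_mul_pReg (p := p) y, ← hu']
      group
    · refine Prod.ext (Subtype.ext ?_) rfl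
      show w * (w⁻¹ * a * w) * w⁻¹ = a
      group

end Square

end Cfsg.Agent.H86.MTwentyTwo
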